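import Mathlib
import Cfsg.Prelude.Def_Transfer
import Cfsg.Agent.Lib.FrattiniPGroup
set_option linter.all false

set_option autoImplicit false

/-! Abstract group theory for the centraliser of a reflection in `J₂`:
a criterion for extraspecial 2-groups, its transport, and a quotient lemma. -/

open scoped commutatorElement

namespace Cfsg.Agent.J2.ExtQuot

/-- A criterion for a finite 2-group to be extraspecial. -/
theorem isExtraspecial_two {P : Type*} [Group P] [Finite P] (hP : IsPGroup 2 P)
    (hZ : Nat.card (Subgroup.center P) = 2)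
    (hsq : ∀ x : P, x ^ 2 ∈ Subgroup.center P) (hcomm : ∃ x y : P, x * y ≠ y * x) :
    Cfsg.IsExtraspecial 2 P := by
  have h2 : Fact (Nat.Prime 2) := ⟨Nat.prime_two⟩
  have hc : ∀ x y : P, ⁅x, y⁆ ∈ Subgroup.center P := by
    intro x y
    have h : ⁅x, y⁆ = x ^ 2 * ((x⁻¹ * y) ^ 2) * (y⁻¹) ^ 2 := by
      rw [commutatorElement_def]; simp only [pow_two]; group
    rw [h]
    exact mul_mem (mul_mem (hsq _) (hsq _)) (hsq _)
  have hle : commutator P ≤ Subgroup.center P := by
    rw [_root_.commutator_def, Subgroup.commutator_le]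
    intro x _ y _
    exact hc x y
  have hprime : ∀ H : Subgroup P, H ≤ Subgroup.center P → H ≠ ⊥ → H = Subgroup.center P := by
    intro H hH hne
    have hdvd : Nat.card H ∣ 2 := hZ ▸ Subgroup.card_dvd_of_le hH
    rcases (Nat.dvd_prime Nat.prime_two).1 hdvd with h1 | h1
    · exact absurd ((Subgroup.card_eq_one).1 h1) hne
    · exact Subgroup.eq_of_le_of_card_ge hH (by rw [hZ, h1])
  have hcom : commutator P = Subgroup.center P := by
    apply hprime _ hle
    intro h
    obtain ⟨x, y, hxy⟩ := hcomm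
    apply hxy
    have : ⁅x, y⁆ ∈ commutator P := by
      rw [_root_.commutator_def]
      exact Subgroup.commutator_mem_commutator (Subgroup.mem_top _) (Subgroup.mem_top _)
    rw [h, Subgroup.mem_bot, commutatorElement_eq_one_iff_mul_comm] at this
    exact this
  have hfr : frattini P = Subgroup.center P := by
    apply le_antisymm
    · exact Cfsg.Agent.Lib.FrattiniPGroup.frattini_le (p := 2) (Subgroup.center P) hc hsq
    · rw [← hcom]
      exact Cfsg.Agent.Lib.FrattiniPGroup.commutator_le_frattini hP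
  exact ⟨⟨hP, hfr, hcom⟩, hZ⟩

/-- Extraspeciality (for the prime 2) is invariant under isomorphism. -/
theorem isExtraspecial_of_equiv {P Q : Type*} [Group P] [Group Q] [Finite P] (e : P ≃* Q)
    (h : Cfsg.IsExtraspecial 2 P) : Cfsg.IsExtraspecial 2 Q := by
  have h2 : Fact (Nat.Prime 2) := ⟨Nat.prime_two⟩
  obtain ⟨⟨hP, hfr, hcom⟩, hZ⟩ := h
  have : Finite Q := Finite.of_equiv P e.toEquiv
  have hmem : ∀ x : P, x ∈ Subgroup.center P ↔ e x ∈ Subgroup.center Q := by
    intro x
    rw [Subgroup.mem_center_iff, Subgroup.mem_center_iff]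
    constructor
    · intro hx g
      obtain ⟨g, rfl⟩ := e.surjective g
      rw [← map_mul, ← map_mul, hx]
    · intro hx g
      apply e.injective
      rw [map_mul, map_mul, hx]
  have hcenter : Nat.card (Subgroup.center Q) = 2 := by
    rw [← hZ]
    refine Nat.card_congr (Equiv.symm ?_)
    exact e.toEquiv.subtypeEquiv hmem
  apply isExtraspecial_two (hP.of_equiv e) hcenter
  · intro y
    obtain ⟨x, rfl⟩ := e.surjective y
    rw [← map_pow, ← hmem, ← hfr]
    exact Cfsg.Agent.Lib.FrattiniPGroup.pow_mem_frattini hP x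
  · by_contra hne
    push Not at hne
    have hall : Subgroup.center P = ⊤ := by
      rw [eq_top_iff]
      intro x _
      rw [Subgroup.mem_center_iff]
      intro g
      apply e.injective
      rw [map_mul, map_mul, hne]
    have hbot : commutator P = ⊥ := by
      rw [_root_.commutator_def, Subgroup.commutator_eq_bot_iff_le_centralizer]
      intro x _
      rw [Subgroup.mem_centralizer_iff]
      intro y _
      exact (Subgroup.mem_center_iff.1 (hall ▸ Subgroup.mem_top x) y)
    rw [hcom] at hbot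
    rw [hbot, Subgroup.card_bot] at hZ
    exact absurd hZ (by norm_num)

/-- If `θ : C → D` and `ρ : C → A` are surjective and `ker ρ = ker θ · K` with
`ker θ ∩ K = 1`, then `D` has a normal subgroup isomorphic to `K` with quotient `A`. -/
theorem exists_normal_of_surjective {C D A : Type*} [Group C] [Group D] [Group A]
    (θ : C →* D) (hθ : Function.Surjective θ) (ρ : C →* A) (hρ : Function.Surjective ρ)
    (K : Subgroup C) (hK1 : ∀ x ∈ K, θ x = 1 → x = 1) (hK2 : ∀ x ∈ K, ρ x = 1)
    (hK3 : ∀ x, ρ x = 1 → ∃ z k, θ z = 1 ∧ ρ z = 1 ∧ k ∈ K ∧ x = z * k)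
    (hK4 : ∀ z, θ z = 1 → ρ z = 1) :
    ∃ (Q : Subgroup D) (_ : Q.Normal), Nonempty (K ≃* Q) ∧ Nonempty (D ⧸ Q ≃* A) := by
  have hker : θ.ker ≤ ρ.ker := fun z hz => hK4 z hz
  let σ : D →* A := (QuotientGroup.lift θ.ker ρ (fun z hz => hK4 z hz)).comp
    (QuotientGroup.quotientKerEquivOfSurjective θ hθ).symm.toMonoidHom
  have hσ : ∀ c : C, σ (θ c) = ρ c := by
    intro c
    have : (QuotientGroup.quotientKerEquivOfSurjective θ hθ).symm (θ c) = (c : C ⧸ θ.ker) := by
      rw [MulEquiv.symm_apply_eq]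
      rfl
    simp only [σ, MonoidHom.comp_apply, MulEquiv.toMonoidHom_eq_coe, MonoidHom.coe_coe, this]
    rfl
  have hσs : Function.Surjective σ := by
    intro a
    obtain ⟨c, rfl⟩ := hρ a
    exact ⟨θ c, hσ c⟩
  refine ⟨σ.ker, inferInstance, ?_, ⟨QuotientGroup.quotientKerEquivOfSurjective σ hσs⟩⟩
  have hmap : ∀ k : K, θ k ∈ σ.ker := by
    intro k
    rw [MonoidHom.mem_ker, hσ]
    exact hK2 k k.2
  let j : K →* σ.ker := (θ.comp K.subtype).codRestrict σ.ker hmap
  have hj : Function.Bijective j := by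
    constructor
    · rw [injective_iff_map_eq_one]
      intro k hk
      have : θ k = 1 := congrArg Subtype.val hk
      exact Subtype.ext (hK1 k k.2 this)
    · rintro ⟨d, hd⟩
      obtain ⟨c, rfl⟩ := hθ d
      rw [MonoidHom.mem_ker, hσ] at hd
      obtain ⟨z, k, hz, -, hk, rfl⟩ := hK3 c hd
      refine ⟨⟨k, hk⟩, ?_⟩
      apply Subtype.ext
      change θ k = θ (z * k)
      rw [map_mul, hz, one_mul]
  exact ⟨MulEquiv.ofBijective j hj⟩

/-- The centraliser of a conjugate of `f0` in `G / Z(G)`, when every element of `G` that commutes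
with `f0` modulo the centre commutes with `f0`. -/
theorem centralizer_quotient {G A : Type*} [Group G] [Group A] (f0 f g : G)
    (hf : g * f0 * g⁻¹ = f)
    (h1 : ∀ x : G, x * f0 * x⁻¹ * f0⁻¹ ∈ Subgroup.center G → x * f0 = f0 * x)
    (ρ : ↥(Subgroup.centralizer ({f0} : Set G)) →* A) (hρ : Function.Surjective ρ)
    (K : Subgroup ↥(Subgroup.centralizer ({f0} : Set G)))
    (hK1 : ∀ x ∈ K, (x : G) ∈ Subgroup.center G → x = 1)
    (hK2 : ∀ x ∈ K, ρ x = 1)
    (hZ : ∀ z : ↥(Subgroup.centralizer ({f0} : Set G)), (z : G) ∈ Subgroup.center G → ρ z = 1)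
    (hK3 : ∀ x, ρ x = 1 → ∃ z k : ↥(Subgroup.centralizer ({f0} : Set G)),
      (z : G) ∈ Subgroup.center G ∧ k ∈ K ∧ x = z * k) :
    ∃ (Q : Subgroup ↥(Subgroup.centralizer {(QuotientGroup.mk f : G ⧸ Subgroup.center G)}))
      (_ : Q.Normal), Nonempty (K ≃* Q) ∧
      Nonempty (↥(Subgroup.centralizer {(QuotientGroup.mk f : G ⧸ Subgroup.center G)}) ⧸ Q ≃* A) := by
  -- the map `x ↦ mk (g x g⁻¹)`
  have hmem : ∀ x : ↥(Subgroup.centralizer ({f0} : Set G)),
      (QuotientGroup.mk' (Subgroup.center G)) (g * x * g⁻¹) ∈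
        Subgroup.centralizer {(QuotientGroup.mk f : G ⧸ Subgroup.center G)} := by
    intro x
    rw [Subgroup.mem_centralizer_singleton_iff]
    have hx : (x : G) * f0 = f0 * x := (Subgroup.mem_centralizer_singleton_iff.1 x.2)
    change (QuotientGroup.mk' (Subgroup.center G)) (g * x * g⁻¹) *
      (QuotientGroup.mk' (Subgroup.center G)) f = (QuotientGroup.mk' (Subgroup.center G)) f *
      (QuotientGroup.mk' (Subgroup.center G)) (g * x * g⁻¹)
    rw [← map_mul, ← map_mul, ← hf]
    congr 1
    calc g * x * g⁻¹ * (g * f0 * g⁻¹) = g * (x * f0) * g⁻¹ := by group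
      _ = g * (f0 * x) * g⁻¹ := by rw [hx]
      _ = _ := by group
  let θ : ↥(Subgroup.centralizer ({f0} : Set G)) →*
      ↥(Subgroup.centralizer {(QuotientGroup.mk f : G ⧸ Subgroup.center G)}) :=
    { toFun := fun x => ⟨(QuotientGroup.mk' (Subgroup.center G)) (g * x * g⁻¹), hmem x⟩
      map_one' := by
        apply Subtype.ext
        simp
      map_mul' := by
        intro x y
        apply Subtype.ext
        change (QuotientGroup.mk' (Subgroup.center G)) (g * (x * y) * g⁻¹) =
          (QuotientGroup.mk' (Subgroup.center G)) (g * x * g⁻¹) *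
          (QuotientGroup.mk' (Subgroup.center G)) (g * y * g⁻¹)
        rw [← map_mul]
        congr 1
        group }
  have hθ1 : ∀ x, θ x = 1 ↔ (x : G) ∈ Subgroup.center G := by
    intro x
    have : θ x = 1 ↔ (QuotientGroup.mk' (Subgroup.center G)) (g * x * g⁻¹) = 1 := by
      rw [← Subtype.coe_inj]; rfl
    rw [this, QuotientGroup.mk'_apply, QuotientGroup.eq_one_iff]
    constructor
    · intro h
      have := (inferInstance : (Subgroup.center G).Normal).conj_mem _ h g⁻¹
      simpa [mul_assoc] using this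
    · intro h
      exact (inferInstance : (Subgroup.center G).Normal).conj_mem _ h g
  have hθs : Function.Surjective θ := by
    rintro ⟨y, hy⟩
    obtain ⟨y, rfl⟩ := QuotientGroup.mk'_surjective _ y
    have h2 : g⁻¹ * y * g ∈ Subgroup.centralizer ({f0} : Set G) := by
      rw [Subgroup.mem_centralizer_singleton_iff]
      apply h1
      rw [Subgroup.mem_centralizer_singleton_iff] at hy
      have h3 : (QuotientGroup.mk' (Subgroup.center G)) (y * f * y⁻¹ * f⁻¹) = 1 := by
        rw [map_mul, map_mul, map_mul, map_inv, map_inv]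
        change (QuotientGroup.mk' (Subgroup.center G)) y * (QuotientGroup.mk' (Subgroup.center G)) f =
          (QuotientGroup.mk' (Subgroup.center G)) f * (QuotientGroup.mk' (Subgroup.center G)) y at hy
        rw [hy]
        group
      rw [QuotientGroup.mk'_apply, QuotientGroup.eq_one_iff] at h3
      have h4 := (inferInstance : (Subgroup.center G).Normal).conj_mem _ h3 g⁻¹
      convert h4 using 1
      rw [← hf]
      group
    refine ⟨⟨_, h2⟩, ?_⟩
    apply Subtype.ext
    change (QuotientGroup.mk' (Subgroup.center G)) (g * (g⁻¹ * y * g) * g⁻¹) = _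
    congr 1
    group
  apply exists_normal_of_surjective θ hθs ρ hρ K
  · intro x hx h
    exact hK1 x hx ((hθ1 x).1 h)
  · exact hK2
  · intro x hx
    obtain ⟨z, k, hz, hk, h⟩ := hK3 x hx
    exact ⟨z, k, (hθ1 z).2 hz, hZ z hz, hk, h⟩
  · intro z hz
    exact hZ z ((hθ1 z).1 hz)

end Cfsg.Agent.J2.ExtQuot
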