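import Cfsg.Agent.J2.Group
import Cfsg.Agent.J2.Units
import Cfsg.Agent.J2.ExtQuot
set_option linter.all false

/-!
# The stabiliser in `W = 2·J₂` of the root `(2,0,0)`

It consists of the 32 monomial maps `(x, y, z) ↦ (x, y c, z c')` and `(x, z c, y c')` with
`c, c' ∈ {±1, ±i, ±j, ±k}`, `c' = ±c`.
-/

set_option autoImplicit false

open Quaternion

namespace Cfsg.Agent.J2.Stab

open Cfsg.Spor Cfsg.Agent.J2.ZTau Cfsg.Agent.J2.Ico Cfsg.Agent.J2.Lattice Cfsg.Agent.J2.Refl
  Cfsg.Agent.J2.Norm Cfsg.Agent.J2.Units Cfsg.Agent.J2.Group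

theorem normZ_eq (x : Icos) : normZ x = nrm x := by
  have h := mul_star_self x
  rw [mul_star_eq] at h
  exact (ofZt_injective h).symm

/-! ### special vectors -/

/-- `(2,0,0)` as a lattice vector -/
noncomputable def l1 : Lam := pt root_e1
/-- `(0,2,0)` as a lattice vector -/
noncomputable def l2 : Lam := pt root_e2
/-- `(0,0,2)` as a lattice vector -/
noncomputable def l3 : Lam := pt root_e3

theorem l1_val : (l1 : Vec) = e1 := rfl
theorem l2_val : (l2 : Vec) = e2 := rfl
theorem l3_val : (l3 : Vec) = e3 := rfl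

theorem two_smul_eq (v : Vec) : v + v = v.x • e1 + v.y • e2 + v.z • e3 := by
  ext1 <;> simp only [add_x, add_y, add_z, smul_x, smul_y, smul_z, e1, e2, e3, two_eq, mul_two,
    mul_zero, add_zero, zero_add]

/-- An element of `W` is determined by its values on `e1, e2, e3`. -/
theorem W_apply_add_self {g : Equiv.Perm Lam} (hg : g ∈ W) (v : Lam) :
    (g v : Vec) + (g v : Vec) = (v : Vec).x • (g l1 : Vec) + (v : Vec).y • (g l2 : Vec) +
      (v : Vec).z • (g l3 : Vec) := by
  have h : v + v = (v : Vec).x • l1 + (v : Vec).y • l2 + (v : Vec).z • l3 := by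
    apply Subtype.ext
    rw [Submodule.coe_add, Submodule.coe_add, Submodule.coe_add, Submodule.coe_smul,
      Submodule.coe_smul, Submodule.coe_smul]
    exact two_smul_eq v
  have h2 := congrArg (fun w : Lam => (g w : Vec)) h
  simp only [W_add hg, W_smul hg, Submodule.coe_add, Submodule.coe_smul] at h2
  exact h2

theorem vec_add_self_injective {u v : Vec} (h : u + u = v + v) : u = v := by
  have hx := congrArg Vec.x h
  have hy := congrArg Vec.y h
  have hz := congrArg Vec.z h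
  exact Vec.ext (add_self_injective hx) (add_self_injective hy) (add_self_injective hz)

theorem W_ext {g g' : Equiv.Perm Lam} (hg : g ∈ W) (hg' : g' ∈ W) (h1 : g l1 = g' l1)
    (h2 : g l2 = g' l2) (h3 : g l3 = g' l3) : g = g' := by
  ext1 v
  apply Subtype.ext
  apply vec_add_self_injective
  rw [W_apply_add_self hg, W_apply_add_self hg', h1, h2, h3]

/-! ### `I h ∩ I h̄ = 2 I` -/

theorem ofZt_five : ofZt ⟨5, 0⟩ = (5 : Icos) := by
  have h : (⟨5, 0⟩ : Zt) = 2 + 2 + 1 := rfl
  rw [h, ofZt_add, ofZt_add, ofZt_two, ofZt_one]; norm_num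

theorem inH_inHs {s : Icos} (h1 : InH s) (h2 : InHs s) : ∃ c, s = c + c := by
  obtain ⟨a, ha⟩ := h1
  obtain ⟨b, hb⟩ := h2
  have e1 : s * star hh = a + a := by rw [ha, mul_assoc, hh_mul_star, mul_two]
  have e2 : s * hh = b + b := by rw [hb, mul_assoc, star_mul_hh, mul_two]
  have e3 : hh + star hh = ofZt ⟨1, -2⟩ := by decide
  have e4 : ofZt ⟨1, -2⟩ * ofZt ⟨1, -2⟩ = ofZt ⟨5, 0⟩ := by decide
  have e6 : s * ofZt ⟨1, -2⟩ = (b + a) + (b + a) := by
    rw [← e3, mul_add, e1, e2]; abel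
  have e7 : s * 5 = ((b + a) + (b + a)) * ofZt ⟨1, -2⟩ := by
    rw [← ofZt_five, ← e4, ← mul_assoc, e6]
  refine ⟨(b + a) * ofZt ⟨1, -2⟩ - (s + s), ?_⟩
  have e8 : s * 5 = s + s + s + s + s := by noncomm_ring
  rw [e8, add_mul] at e7
  have e9 : s = (s + s + s + s + s) - (s + s) - (s + s) := by abel
  nth_rewrite 1 [e9]
  rw [e7]
  abel

/-! ### the action on the last two coordinates -/

/-- Elements of the stabiliser of `e1` preserve the first coordinate. -/
theorem fix_x {g : Equiv.Perm Lam} (hg : g ∈ W) (h : g l1 = l1) (v : Lam) :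
    (g v : Vec).x = (v : Vec).x := by
  have h1 := W_hip hg v l1
  rw [h, l1_val, hip_e1, hip_e1] at h1
  exact h1

theorem nrm_two : nrm two = ⟨4, 0⟩ := by decide
theorem nrm_hh : nrm hh = ⟨2, 0⟩ := by decide
theorem nrm_star_hh : nrm (star hh) = ⟨2, 0⟩ := by decide

theorem zt4_cancel {a b : Zt} (h : (⟨4, 0⟩ : Zt) * a = ⟨4, 0⟩ * b) : a = b := by
  have ha := congrArg Zt.a h
  have hb := congrArg Zt.b h
  simp only [mul_a, mul_b] at ha hb
  ext
  · omega
  · omega

/-- A unit with `s = c + c`. -/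
theorem nrm_half {s c : Icos} (hs : s = c + c) (h : nrm s = ⟨4, 0⟩) : nrm c = 1 := by
  have e : s = two * c := by rw [hs, two_eq, two_mul]
  rw [e, nrm_mul, nrm_two] at h
  apply zt4_cancel
  rw [h]; rfl

/-- A lattice vector of the form `(s, 0, 0)` etc. with norm 4 is twice a unit. -/
theorem coord_unit {s : Icos} (h1 : InH s) (h2 : InHs s) (h3 : nrm s = ⟨4, 0⟩) :
    ∃ c, nrm c = 1 ∧ s = c + c := by
  obtain ⟨c, hc⟩ := inH_inHs h1 h2
  exact ⟨c, nrm_half hc h3, hc⟩

/-- Key lemma: an element fixing `e1` maps `e3` to a vector with only one nonzero coordinate. -/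
theorem image_e3_aux {g : Equiv.Perm Lam} (hg : g ∈ W) (h : g l1 = l1) (w v : Lam)
    (hw : (v : Vec) = star hh • (w : Vec) + e1) (hwx : InH (w : Vec).x)
    (hvx : (v : Vec).x = 0) (hv4 : ip (v : Vec) (v : Vec) = 4) :
    (g v : Vec).x = 0 ∧
      (((g v : Vec).y = 0 ∧ ∃ c, nrm c = 1 ∧ (g v : Vec).z = c + c) ∨
      ((g v : Vec).z = 0 ∧ ∃ c, nrm c = 1 ∧ (g v : Vec).y = c + c)) := by
  have hx0 : (g v : Vec).x = 0 := by rw [fix_x hg h, hvx]
  refine ⟨hx0, ?_⟩
  have e : v = star hh • w + l1 := Subtype.ext (by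
    rw [Submodule.coe_add, Submodule.coe_smul]; exact hw)
  have e' : g v = star hh • g w + l1 := by
    nth_rewrite 1 [e]
    rw [W_add hg, W_smul hg, h]
  have ey : (g v : Vec).y = star hh * (g w : Vec).y := by
    rw [e', Submodule.coe_add, Submodule.coe_smul, add_y, smul_y, l1_val]
    exact add_zero _
  have ez : (g v : Vec).z = star hh * (g w : Vec).z := by
    rw [e', Submodule.coe_add, Submodule.coe_smul, add_z, smul_z, l1_val]
    exact add_zero _
  have hw2 := (g w).2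
  obtain ⟨k1, k2, k3⟩ := lam_inLam (g w)
  have hx1 : InH (g w : Vec).x := by rw [fix_x hg h]; exact hwx
  have hy1 : InH (g w : Vec).y := by
    have := hx1.sub k1
    simpa using this
  have hz1 : InH (g w : Vec).z := by
    have := hy1.sub k2
    simpa using this
  obtain ⟨p, hp⟩ := hy1
  obtain ⟨q, hq⟩ := hz1
  have hnorm : nrm (g v : Vec).y + nrm (g v : Vec).z = ⟨4, 0⟩ := by
    have h1 := W_ip hg v v
    rw [hv4, ip_self, hx0, ← ofZt_four] at h1
    have h2 := ofZt_injective h1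
    rw [normZ_eq, normZ_eq, normZ_eq, nrm_zero, zero_add] at h2
    rw [h2]; rfl
  have hpq : nrm p + nrm q = 1 := by
    rw [ey, ez, hp, hq, nrm_mul, nrm_mul, nrm_mul, nrm_mul, nrm_hh, nrm_star_hh] at hnorm
    apply zt4_cancel
    have e22 : (⟨2, 0⟩ : Zt) * ⟨2, 0⟩ = ⟨4, 0⟩ := rfl
    have : (⟨2, 0⟩ : Zt) * (nrm p * ⟨2, 0⟩) + ⟨2, 0⟩ * (nrm q * ⟨2, 0⟩) =
      ⟨4, 0⟩ * (nrm p + nrm q) := by rw [← e22]; ring
    rw [← this, hnorm]; rfl
  obtain ⟨m1, m2, m3⟩ := lam_inLam (g v)
  rcases nrm_add_eq_one hpq with ⟨hp0, hq1⟩ | ⟨hq0, hp1⟩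
  · left
    have hy0 : (g v : Vec).y = 0 := by rw [ey, hp, hp0, zero_mul, mul_zero]
    refine ⟨hy0, ?_⟩
    rw [hy0, nrm_zero, zero_add] at hnorm
    rw [hy0, zero_sub] at m2
    rw [hx0, hy0, zero_add, zero_add] at m3
    have m2' := m2.neg
    rw [neg_neg] at m2'
    exact coord_unit m2' m3 hnorm
  · right
    have hz0 : (g v : Vec).z = 0 := by rw [ez, hq, hq0, zero_mul, mul_zero]
    refine ⟨hz0, ?_⟩
    rw [hz0, nrm_zero, add_zero] at hnorm
    rw [hz0, sub_zero] at m2
    rw [hx0, hz0, zero_add, add_zero] at m3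
    exact coord_unit m2 m3 hnorm

/-- `(-h, 0, h)` -/
def w3 : Vec := ⟨-hh, 0, hh⟩
/-- `(-h, h, 0)` -/
def w2 : Vec := ⟨-hh, hh, 0⟩
/-- `(h̄, 1, 1)` -/
def v0 : Vec := ⟨star hh, 1, 1⟩

theorem w3_lam : InLam w3 := lamB_iff.1 (by decide)
theorem w2_lam : InLam w2 := lamB_iff.1 (by decide)
theorem v0_lam : InLam v0 := lamB_iff.1 (by decide)

theorem image_e3 {g : Equiv.Perm Lam} (hg : g ∈ W) (h : g l1 = l1) :
    (g l3 : Vec).x = 0 ∧
      (((g l3 : Vec).y = 0 ∧ ∃ c, nrm c = 1 ∧ (g l3 : Vec).z = c + c) ∨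
      ((g l3 : Vec).z = 0 ∧ ∃ c, nrm c = 1 ∧ (g l3 : Vec).y = c + c)) := by
  apply image_e3_aux hg h ⟨w3, w3_lam⟩ l3
  · change e3 = star hh • w3 + e1
    decide
  · exact ⟨-1, by change -hh = _; rw [neg_one_mul]⟩
  · rfl
  · exact root_e3.2

theorem image_e2 {g : Equiv.Perm Lam} (hg : g ∈ W) (h : g l1 = l1) :
    (g l2 : Vec).x = 0 ∧
      (((g l2 : Vec).y = 0 ∧ ∃ c, nrm c = 1 ∧ (g l2 : Vec).z = c + c) ∨
      ((g l2 : Vec).z = 0 ∧ ∃ c, nrm c = 1 ∧ (g l2 : Vec).y = c + c)) := by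
  apply image_e3_aux hg h ⟨w2, w2_lam⟩ l2
  · change e2 = star hh • w2 + e1
    decide
  · exact ⟨-1, by change -hh = _; rw [neg_one_mul]⟩
  · rfl
  · exact root_e2.2

/-! ### monomial maps -/

/-- A monomial map fixing the first coordinate: `(x, y, z) ↦ (x, y c, z d)` or (if `s`)
`(x, y, z) ↦ (x, z c, y d)`. -/
@[ext] structure Mon where
  /-- entry of the second coordinate -/
  c : Icos
  /-- entry of the third coordinate -/
  d : Icos
  /-- whether the last two coordinates are swapped -/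
  s : Bool

/-- decidable equality -/
instance decEqMon : DecidableEq Mon := fun u v =>
  if h : u.c = v.c ∧ u.d = v.d ∧ u.s = v.s then isTrue (Mon.ext h.1 h.2.1 h.2.2)
  else isFalse (fun e => h ⟨congrArg Mon.c e, congrArg Mon.d e, congrArg Mon.s e⟩)

/-- the action of a monomial map -/
def act (m : Mon) (v : Vec) : Vec :=
  if m.s then ⟨v.x, v.z * m.c, v.y * m.d⟩ else ⟨v.x, v.y * m.c, v.z * m.d⟩

/-- product of monomial maps -/
def mm (m n : Mon) : Mon :=
  if m.s then ⟨n.d * m.c, n.c * m.d, !n.s⟩ else ⟨n.c * m.c, n.d * m.d, n.s⟩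

theorem act_mm (m n : Mon) (v : Vec) : act (mm m n) v = act m (act n v) := by
  obtain ⟨c, d, s⟩ := m
  obtain ⟨c', d', s'⟩ := n
  cases s <;> cases s' <;> simp [act, mm, mul_assoc]

theorem act_add_self (m : Mon) (v : Vec) :
    act m v + act m v = v.x • e1 + v.y • act m e2 + v.z • act m e3 := by
  obtain ⟨c, d, s⟩ := m
  cases s <;> ext1 <;>
    simp [act, e1, e2, e3, two_eq, mul_two, two_mul, mul_add]

theorem act_e1 (m : Mon) : act m e1 = e1 := by
  obtain ⟨c, d, s⟩ := m
  cases s <;> simp [act, e1]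

/-- the eight units `±1, ±i, ±j, ±k` -/
def q8 : List Icos := units.take 8

/-- the 32 monomial maps of the stabiliser -/
def KL : List Mon :=
  q8.flatMap fun c => [⟨c, c, false⟩, ⟨c, -c, false⟩, ⟨c, c, true⟩, ⟨c, -c, true⟩]

/-- A monomial map is realised by an element of `W`. -/
def Realized (m : Mon) : Prop := ∃ g ∈ W, ∀ v : Lam, (g v : Vec) = act m v

theorem Realized.mul {m n : Mon} (hm : Realized m) (hn : Realized n) : Realized (mm m n) := by
  obtain ⟨g, hg, h⟩ := hm
  obtain ⟨g', hg', h'⟩ := hn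
  refine ⟨g * g', mul_mem hg hg', fun v => ?_⟩
  rw [Equiv.Perm.mul_apply, h, h', act_mm]

theorem realized_of_basis {g : Equiv.Perm Lam} (hg : g ∈ W) (m : Mon) (h1 : (g l1 : Vec) = e1)
    (h2 : (g l2 : Vec) = act m e2) (h3 : (g l3 : Vec) = act m e3) (v : Lam) :
    (g v : Vec) = act m v := by
  apply vec_add_self_injective
  rw [W_apply_add_self hg, h1, h2, h3, act_add_self]

theorem realized_rf (r : Vec) (m : Mon) (h : rootB r = true) (h1 : refl r e1 = e1)
    (h2 : refl r e2 = act m e2) (h3 : refl r e3 = act m e3) : Realized m :=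
  ⟨rf r (rootB_iff.1 h), rf_mem _, realized_of_basis (rf_mem _) m
    (by rw [rf_apply, l1_val]; exact h1) (by rw [rf_apply, l2_val]; exact h2)
    (by rw [rf_apply, l3_val]; exact h3)⟩

/-- the icosian i -/
def uI : Icos := eI
/-- the icosian j -/
def uJ : Icos := ⟨⟨2, -1⟩, ⟨-1, 1⟩, ⟨0, 0⟩, ⟨2, -2⟩⟩

theorem real_e2 : Realized ⟨-1, 1, false⟩ :=
  realized_rf e2 _ (by decide) (by decide) (by decide) (by decide)

theorem real_e3 : Realized ⟨1, -1, false⟩ :=
  realized_rf e3 _ (by decide) (by decide) (by decide) (by decide)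

theorem real_swap : Realized ⟨1, 1, true⟩ :=
  realized_rf ⟨0, hh, -hh⟩ _ (by decide) (by decide) (by decide) (by decide)

theorem real_i : Realized ⟨uI, -uI, true⟩ :=
  realized_rf ⟨0, hh, hh * uI⟩ _ (by decide) (by decide) (by decide) (by decide)

theorem real_j : Realized ⟨uJ, -uJ, true⟩ :=
  realized_rf ⟨0, hh, hh * uJ⟩ _ (by decide) (by decide) (by decide) (by decide)

theorem real_one : Realized ⟨1, 1, false⟩ :=
  ⟨1, one_mem _, fun v => by
    rw [Equiv.Perm.one_apply]
    simp [act]⟩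

/-- products of the generators -/
def prods : List Mon :=
  [(⟨1, 1, false⟩ : Mon), ⟨uI, -uI, true⟩].flatMap fun a =>
    [(⟨1, 1, false⟩ : Mon), ⟨uJ, -uJ, true⟩].flatMap fun b =>
      [(⟨1, 1, false⟩ : Mon), ⟨1, 1, true⟩].flatMap fun c =>
        [(⟨1, 1, false⟩ : Mon), ⟨-1, 1, false⟩].flatMap fun d =>
          [(⟨1, 1, false⟩ : Mon), ⟨1, -1, false⟩].map fun e => mm a (mm b (mm c (mm d e)))

theorem KL_subset : ∀ m ∈ KL, m ∈ prods := by decide +kernel

theorem realized_KL {m : Mon} (hm : m ∈ KL) : Realized m := by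
  have h := KL_subset m hm
  unfold prods at h
  simp only [List.mem_flatMap, List.mem_map] at h
  obtain ⟨a, ha, b, hb, c, hc, d, hd, e, he, rfl⟩ := h
  have ra : Realized a := by
    simp only [List.mem_cons, List.not_mem_nil, or_false] at ha
    rcases ha with rfl | rfl
    · exact real_one
    · exact real_i
  have rb : Realized b := by
    simp only [List.mem_cons, List.not_mem_nil, or_false] at hb
    rcases hb with rfl | rfl
    · exact real_one
    · exact real_j
  have rc : Realized c := by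
    simp only [List.mem_cons, List.not_mem_nil, or_false] at hc
    rcases hc with rfl | rfl
    · exact real_one
    · exact real_swap
  have rd : Realized d := by
    simp only [List.mem_cons, List.not_mem_nil, or_false] at hd
    rcases hd with rfl | rfl
    · exact real_one
    · exact real_e2
  have re : Realized e := by
    simp only [List.mem_cons, List.not_mem_nil, or_false] at he
    rcases he with rfl | rfl
    · exact real_one
    · exact real_e3
  exact ra.mul (rb.mul (rc.mul (rd.mul re)))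

theorem q8_check : ∀ a ∈ units, hB (star hh - a) = true → a ∈ q8 := by decide +kernel

theorem q8_check2 : ∀ a ∈ q8, ∀ b ∈ q8, hsB (star hh + a + b) = true → b = a ∨ b = -a := by
  decide +kernel

/-- The pairs `(a, b)` of units with `(h̄, a, b) ∈ Λ`. -/
theorem pair_check {a b : Icos} (ha : nrm a = 1) (hb : nrm b = 1) (h : InLam ⟨star hh, a, b⟩) :
    a ∈ q8 ∧ (b = a ∨ b = -a) := by
  obtain ⟨h1, h2, h3⟩ := h
  have ha8 : a ∈ q8 := q8_check a (mem_units_iff.2 ha) (hB_iff.2 h1)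
  have h4 : InH (star hh - b) := by
    have := h1.add h2
    simpa using this
  have hb8 : b ∈ q8 := q8_check b (mem_units_iff.2 hb) (hB_iff.2 h4)
  exact ⟨ha8, q8_check2 a ha8 b hb8 (hsB_iff.2 h3)⟩

theorem mem_KL_iff (m : Mon) : m ∈ KL ↔ m.c ∈ q8 ∧ (m.d = m.c ∨ m.d = -m.c) := by
  obtain ⟨c, d, s⟩ := m
  unfold KL
  rw [List.mem_flatMap]
  constructor
  · rintro ⟨a, ha, hm⟩
    simp only [List.mem_cons, List.not_mem_nil, or_false, Mon.mk.injEq] at hm
    rcases hm with ⟨rfl, rfl, -⟩ | ⟨rfl, rfl, -⟩ | ⟨rfl, rfl, -⟩ | ⟨rfl, rfl, -⟩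
    · exact ⟨ha, Or.inl rfl⟩
    · exact ⟨ha, Or.inr rfl⟩
    · exact ⟨ha, Or.inl rfl⟩
    · exact ⟨ha, Or.inr rfl⟩
  · rintro ⟨ha, hd⟩
    refine ⟨c, ha, ?_⟩
    simp only at hd
    simp only [List.mem_cons, List.not_mem_nil, or_false, Mon.mk.injEq]
    rcases hd with rfl | rfl <;> cases s <;> simp

/-- Every element of `W` fixing `e1` is one of the 32 monomial maps. -/
theorem stab_classify {g : Equiv.Perm Lam} (hg : g ∈ W) (h : g l1 = l1) :
    ∃ m ∈ KL, ∀ v : Lam, (g v : Vec) = act m v := by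
  obtain ⟨x3, h3⟩ := image_e3 hg h
  obtain ⟨x2, h2⟩ := image_e2 hg h
  have hg1 : (g l1 : Vec) = e1 := by rw [h, l1_val]
  have hip23 : ip (g l2 : Vec) (g l3 : Vec) = 0 := by
    rw [W_ip hg, l2_val, l3_val]; decide
  have hcc : ∀ c d : Icos, nrm c = 1 → nrm d = 1 → (c + c) * star (d + d) ≠ 0 := by
    intro c d hc hd h0
    have h4 : (c + c) * star (d + d) = (two * two) * (c * star d) := by
      rw [two_eq, star_add]; noncomm_ring
    rw [h4] at h0
    have h5 := congrArg nrm h0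
    rw [nrm_mul, nrm_mul, nrm_mul, nrm_star, hc, hd] at h5
    revert h5
    decide
  rcases h3 with ⟨y3, d, hd, z3⟩ | ⟨z3, d, hd, y3⟩
  · -- `g e3 = (0, 0, 2d)`
    rcases h2 with ⟨y2, c, hc, z2⟩ | ⟨z2, c, hc, y2⟩
    · exfalso
      unfold ip at hip23
      rw [x3, x2, y3, y2, z3, z2, star_zero, mul_zero, zero_add, zero_add] at hip23
      exact hcc c d hc hd hip23
    · have e2' : (g l2 : Vec) = act ⟨c, d, false⟩ e2 := by
        ext1
        · rw [x2]; rfl
        · rw [y2]; simp [act, e2, two_eq, two_mul]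
        · rw [z2]; simp [act, e2]
      have e3' : (g l3 : Vec) = act ⟨c, d, false⟩ e3 := by
        ext1
        · rw [x3]; rfl
        · rw [y3]; simp [act, e3]
        · rw [z3]; simp [act, e3, two_eq, two_mul]
      have hall := realized_of_basis hg ⟨c, d, false⟩ hg1 e2' e3'
      have hv : InLam (act ⟨c, d, false⟩ v0) := by
        have := hall ⟨v0, v0_lam⟩
        change (g ⟨v0, v0_lam⟩ : Vec) = act ⟨c, d, false⟩ v0 at this
        rw [← this]; exact lam_inLam _
      have hv' : act ⟨c, d, false⟩ v0 = ⟨star hh, c, d⟩ := by simp [act, v0]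
      rw [hv'] at hv
      exact ⟨⟨c, d, false⟩, (mem_KL_iff ⟨c, d, false⟩).2 (pair_check hc hd hv), hall⟩
  · -- `g e3 = (0, 2d, 0)`
    rcases h2 with ⟨y2, c, hc, z2⟩ | ⟨z2, c, hc, y2⟩
    · have e2' : (g l2 : Vec) = act ⟨d, c, true⟩ e2 := by
        ext1
        · rw [x2]; rfl
        · rw [y2]; simp [act, e2]
        · rw [z2]; simp [act, e2, two_eq, two_mul]
      have e3' : (g l3 : Vec) = act ⟨d, c, true⟩ e3 := by
        ext1
        · rw [x3]; rfl
        · rw [y3]; simp [act, e3, two_eq, two_mul]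
        · rw [z3]; simp [act, e3]
      have hall := realized_of_basis hg ⟨d, c, true⟩ hg1 e2' e3'
      have hv : InLam (act ⟨d, c, true⟩ v0) := by
        have := hall ⟨v0, v0_lam⟩
        change (g ⟨v0, v0_lam⟩ : Vec) = act ⟨d, c, true⟩ v0 at this
        rw [← this]; exact lam_inLam _
      have hv' : act ⟨d, c, true⟩ v0 = ⟨star hh, d, c⟩ := by simp [act, v0]
      rw [hv'] at hv
      exact ⟨⟨d, c, true⟩, (mem_KL_iff ⟨d, c, true⟩).2 (pair_check hd hc hv), hall⟩
    · exfalso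
      unfold ip at hip23
      rw [x3, x2, y3, y2, z3, z2, star_zero, mul_zero, zero_add, add_zero] at hip23
      exact hcc c d hc hd hip23

/-! ### the stabiliser as a group -/

theorem KL_length : KL.length = 32 := by decide +kernel

theorem KL_nodup : KL.Nodup := by decide +kernel

theorem KL_nodup_map : (KL.map fun m => (act m e2, act m e3)).Nodup := by
  decide +kernel

theorem KL_inj : ∀ m ∈ KL, ∀ n ∈ KL, act m e2 = act n e2 → act m e3 = act n e3 → m = n := by
  intro m hm n hn h2 h3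
  exact List.inj_on_of_nodup_map KL_nodup_map hm hn (by simp only [h2, h3])

theorem KL_sq : ∀ m ∈ KL, mm m m = ⟨1, 1, false⟩ ∨ mm m m = ⟨-1, -1, false⟩ := by decide +kernel

theorem KL_center : ∀ m ∈ KL, (∀ n ∈ ([⟨uI, -uI, true⟩, ⟨uJ, -uJ, true⟩, ⟨1, 1, true⟩,
    ⟨-1, 1, false⟩] : List Mon), mm m n = mm n m) →
    m = ⟨1, 1, false⟩ ∨ m = ⟨-1, -1, false⟩ := by decide +kernel

theorem KL_gens : ∀ n ∈ ([⟨uI, -uI, true⟩, ⟨uJ, -uJ, true⟩, ⟨1, 1, true⟩,
    ⟨-1, 1, false⟩] : List Mon), n ∈ KL := by decide +kernel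

theorem mm_neg_comm (n : Mon) : mm ⟨-1, -1, false⟩ n = mm n ⟨-1, -1, false⟩ := by
  obtain ⟨c, d, s⟩ := n
  cases s <;> simp [mm]

theorem mm_one_left (n : Mon) : mm ⟨1, 1, false⟩ n = n := by
  obtain ⟨c, d, s⟩ := n
  cases s <;> simp [mm]

theorem mm_one_right (n : Mon) : mm n ⟨1, 1, false⟩ = n := by
  obtain ⟨c, d, s⟩ := n
  cases s <;> simp [mm]

/-- The stabiliser of `e1` in `W`. -/
noncomputable def K : Subgroup W where
  carrier := {g | (g : Equiv.Perm Lam) l1 = l1}
  one_mem' := rfl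
  mul_mem' := by
    intro a b ha hb
    change (a : Equiv.Perm Lam) ((b : Equiv.Perm Lam) l1) = l1
    rw [hb, ha]
  inv_mem' := by
    intro a ha
    change ((a : Equiv.Perm Lam)⁻¹) l1 = l1
    rw [Equiv.Perm.inv_eq_iff_eq]
    exact ha.symm

theorem mem_K {g : W} : g ∈ K ↔ (g : Equiv.Perm Lam) l1 = l1 := Iff.rfl

theorem exists_mon (g : K) : ∃ m ∈ KL, ∀ v : Lam, ((g : W) : Equiv.Perm Lam) v = act m v :=
  stab_classify g.1.2 g.2

/-- the monomial map of an element of the stabiliser -/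
noncomputable def toMon (g : K) : Mon := (exists_mon g).choose

theorem toMon_mem (g : K) : toMon g ∈ KL := (exists_mon g).choose_spec.1

theorem toMon_spec (g : K) (v : Lam) : (((g : W) : Equiv.Perm Lam) v : Vec) = act (toMon g) v :=
  (exists_mon g).choose_spec.2 v

theorem toMon_eq {g : K} {m : Mon} (hm : m ∈ KL)
    (h2 : (((g : W) : Equiv.Perm Lam) l2 : Vec) = act m e2)
    (h3 : (((g : W) : Equiv.Perm Lam) l3 : Vec) = act m e3) : toMon g = m := by
  apply KL_inj _ (toMon_mem g) _ hm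
  · rw [← h2, toMon_spec, l2_val]
  · rw [← h3, toMon_spec, l3_val]

theorem toMon_injective : Function.Injective toMon := by
  intro g g' h
  apply Subtype.ext
  apply Subtype.ext
  ext1 v
  apply Subtype.ext
  rw [toMon_spec, toMon_spec, h]

theorem toMon_surj {m : Mon} (hm : m ∈ KL) : ∃ g : K, toMon g = m := by
  obtain ⟨g, hg, h⟩ := realized_KL hm
  have h1 : (⟨g, hg⟩ : W) ∈ K := by
    rw [mem_K]
    apply Subtype.ext
    change (g l1 : Vec) = (l1 : Vec)
    rw [h, l1_val, act_e1]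
  exact ⟨⟨⟨g, hg⟩, h1⟩, toMon_eq hm (h l2) (h l3)⟩

theorem toMon_one : toMon 1 = ⟨1, 1, false⟩ :=
  toMon_eq (by decide +kernel) (by
    change (l2 : Vec) = _
    rw [l2_val]; decide) (by
    change (l3 : Vec) = _
    rw [l3_val]; decide)

theorem toMon_mul_apply (g g' : K) (v : Lam) :
    act (mm (toMon g) (toMon g')) v = (((g * g' : K) : W) : Equiv.Perm Lam) v := by
  rw [act_mm, ← toMon_spec, ← toMon_spec]
  rfl

theorem q8_mul : ∀ a ∈ q8, ∀ b ∈ q8, a * b ∈ q8 := by decide +kernel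

theorem q8_neg : ∀ a ∈ q8, -a ∈ q8 := by decide +kernel

theorem mm_mem_KL {m n : Mon} (hm : m ∈ KL) (hn : n ∈ KL) : mm m n ∈ KL := by
  obtain ⟨c, d, s⟩ := m
  obtain ⟨c', d', s'⟩ := n
  rw [mem_KL_iff] at hm hn ⊢
  obtain ⟨hc, hd⟩ := hm
  obtain ⟨hc', hd'⟩ := hn
  simp only at hc hd hc' hd'
  cases s <;> rcases hd with rfl | rfl <;> rcases hd' with rfl | rfl <;>
    simp [mm, q8_mul _ hc' _ hc, q8_neg _ (q8_mul _ hc' _ hc)]

theorem toMon_mul (g g' : K) : toMon (g * g') = mm (toMon g) (toMon g') := by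
  apply toMon_eq (mm_mem_KL (toMon_mem g) (toMon_mem g'))
  · rw [← toMon_mul_apply, l2_val]
  · rw [← toMon_mul_apply, l3_val]

/-- The stabiliser as the list of 32 monomial maps. -/
noncomputable def equivKL : K ≃ {m : Mon // m ∈ KL.toFinset} :=
  Equiv.ofBijective (fun g => ⟨toMon g, List.mem_toFinset.2 (toMon_mem g)⟩) (by
    constructor
    · intro g g' h
      exact toMon_injective (congrArg Subtype.val h)
    · rintro ⟨m, hm⟩
      obtain ⟨g, rfl⟩ := toMon_surj (List.mem_toFinset.1 hm)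
      exact ⟨g, rfl⟩)

theorem card_K : Nat.card K = 32 := by
  rw [Nat.card_congr equivKL, Nat.card_eq_fintype_card, Fintype.card_coe,
    List.toFinset_card_of_nodup KL_nodup, KL_length]

instance finite_K : Finite K := Nat.finite_of_card_ne_zero (by rw [card_K]; norm_num)

theorem mem_center_K (g : K) :
    g ∈ Subgroup.center K ↔ toMon g = ⟨1, 1, false⟩ ∨ toMon g = ⟨-1, -1, false⟩ := by
  rw [Subgroup.mem_center_iff]
  constructor
  · intro h
    apply KL_center _ (toMon_mem g)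
    intro n hn
    obtain ⟨g', rfl⟩ := toMon_surj (KL_gens n hn)
    rw [← toMon_mul, ← toMon_mul, h g']
  · intro h g'
    apply toMon_injective
    rw [toMon_mul, toMon_mul]
    rcases h with h | h
    · rw [h, mm_one_left, mm_one_right]
    · rw [h, mm_neg_comm]

theorem card_center_K : Nat.card (Subgroup.center K) = 2 := by
  obtain ⟨z, hz⟩ := toMon_surj (m := ⟨-1, -1, false⟩) (by decide +kernel)
  have hset : ((Subgroup.center K : Subgroup K) : Set K) = {1, z} := by
    ext g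
    rw [SetLike.mem_coe, mem_center_K, ← hz, ← toMon_one]
    constructor
    · rintro (h | h)
      · left; exact toMon_injective h
      · right; exact toMon_injective h
    · rintro (rfl | rfl)
      · left; rfl
      · right; rfl
  have hne : (1 : K) ≠ z := by
    intro h
    have := congrArg toMon h
    rw [toMon_one, hz] at this
    revert this
    decide
  change Nat.card ((Subgroup.center K : Subgroup K) : Set K) = 2
  rw [hset, Nat.card_coe_set_eq, Set.ncard_pair hne]

/-- The stabiliser of `e1` in `W` is extraspecial of order 32. -/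
theorem isExtraspecial_K : Cfsg.IsExtraspecial 2 K := by
  have h2 : Fact (Nat.Prime 2) := ⟨Nat.prime_two⟩
  apply Cfsg.Agent.J2.ExtQuot.isExtraspecial_two
  · exact IsPGroup.of_card (n := 5) (by rw [card_K]; norm_num)
  · exact card_center_K
  · intro x
    rw [mem_center_K, pow_two, toMon_mul]
    exact KL_sq _ (toMon_mem x)
  · obtain ⟨x, hx⟩ := toMon_surj (m := ⟨uI, -uI, true⟩) (KL_gens _ (by simp))
    obtain ⟨y, hy⟩ := toMon_surj (m := ⟨1, 1, true⟩) (KL_gens _ (by simp))
    refine ⟨x, y, fun h => ?_⟩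
    have := congrArg toMon h
    rw [toMon_mul, toMon_mul, hx, hy] at this
    revert this
    decide

/-- The stabiliser of `(2,0,0)` in `twoJ2` has order 32. -/
theorem card_stab_twoJ2 :
    Nat.card {g : Equiv.Perm icoLeech // g ∈ twoJ2 ∧ g (eLam l1) = eLam l1} = 32 := by
  rw [← card_K]
  refine (Nat.card_congr ?_).symm
  refine Equiv.ofBijective (fun g : K => ⟨((equivTwoJ2 g.1 : twoJ2) : Equiv.Perm icoLeech),
    (equivTwoJ2 g.1).2, ?_⟩) ⟨?_, ?_⟩
  · have h : ((equivTwoJ2 g.1 : twoJ2) : Equiv.Perm icoLeech) (eLam l1) =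
        eLam ((g.1 : Equiv.Perm Lam) l1) := by
      rw [equivTwoJ2_apply]; simp [Equiv.permCongrHom]
    rw [h]
    exact congrArg eLam g.2
  · intro g g' h
    apply Subtype.ext
    apply equivTwoJ2.injective
    apply Subtype.ext
    exact congrArg (fun t : {g : Equiv.Perm icoLeech // g ∈ twoJ2 ∧ g (eLam l1) = eLam l1} =>
      (t : Equiv.Perm icoLeech)) h
  · rintro ⟨g, hg, h⟩
    obtain ⟨w, hw⟩ := equivTwoJ2.surjective ⟨g, hg⟩
    have hwg : ((equivTwoJ2 w : twoJ2) : Equiv.Perm icoLeech) = g := congrArg Subtype.val hw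
    have hK : w ∈ K := by
      rw [mem_K]
      apply eLam.injective
      rw [← h, ← hwg, equivTwoJ2_apply]
      simp [Equiv.permCongrHom]
    exact ⟨⟨w, hK⟩, Subtype.ext hwg⟩

end Cfsg.Agent.J2.Stab
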