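import Cfsg.Agent.J2.UnitOrbit
set_option linter.all false

/-!
# The centraliser of a reflection in `2·J₂` and in `J₂`
-/

set_option autoImplicit false

open Quaternion

namespace Cfsg.Agent.J2.Centralizer

open Cfsg.Spor Cfsg.Agent.J2.ZTau Cfsg.Agent.J2.Ico Cfsg.Agent.J2.Lattice Cfsg.Agent.J2.Refl
  Cfsg.Agent.J2.Norm Cfsg.Agent.J2.Units Cfsg.Agent.J2.Group Cfsg.Agent.J2.Stab
  Cfsg.Agent.J2.UnitOrbit

/-- A version of `centralizer_quotient` along an isomorphism. -/
theorem centralizer_quotient_equiv {H G A : Type*} [Group H] [Group G] [Group A] (e : H ≃* G)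
    (f0 g : H) (f : G) (hf : e (g * f0 * g⁻¹) = f)
    (h1 : ∀ x : H, x * f0 * x⁻¹ * f0⁻¹ ∈ Subgroup.center H → x * f0 = f0 * x)
    (ρ : ↥(Subgroup.centralizer ({f0} : Set H)) →* A) (hρ : Function.Surjective ρ)
    (K : Subgroup ↥(Subgroup.centralizer ({f0} : Set H)))
    (hK1 : ∀ x ∈ K, (x : H) ∈ Subgroup.center H → x = 1)
    (hK2 : ∀ x ∈ K, ρ x = 1)
    (hZ : ∀ z : ↥(Subgroup.centralizer ({f0} : Set H)), (z : H) ∈ Subgroup.center H → ρ z = 1)
    (hK3 : ∀ x, ρ x = 1 → ∃ z k : ↥(Subgroup.centralizer ({f0} : Set H)),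
      (z : H) ∈ Subgroup.center H ∧ k ∈ K ∧ x = z * k) :
    ∃ (Q : Subgroup ↥(Subgroup.centralizer {(QuotientGroup.mk f : G ⧸ Subgroup.center G)}))
      (_ : Q.Normal), Nonempty (K ≃* Q) ∧
      Nonempty (↥(Subgroup.centralizer {(QuotientGroup.mk f : G ⧸ Subgroup.center G)}) ⧸ Q ≃* A) := by
  have hcen : ∀ x : H, x ∈ Subgroup.center H ↔ e x ∈ Subgroup.center G := by
    intro x
    rw [Subgroup.mem_center_iff, Subgroup.mem_center_iff]
    constructor
    · intro hx y
      obtain ⟨y, rfl⟩ := e.surjective y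
      rw [← map_mul, ← map_mul, hx]
    · intro hx y
      apply e.injective
      rw [map_mul, map_mul, hx]
  -- the map `x ↦ mk (e (g x g⁻¹))`
  have hmem : ∀ x : ↥(Subgroup.centralizer ({f0} : Set H)),
      (QuotientGroup.mk' (Subgroup.center G)) (e (g * x * g⁻¹)) ∈
        Subgroup.centralizer {(QuotientGroup.mk f : G ⧸ Subgroup.center G)} := by
    intro x
    rw [Subgroup.mem_centralizer_singleton_iff]
    have hx : (x : H) * f0 = f0 * x := (Subgroup.mem_centralizer_singleton_iff.1 x.2)
    change (QuotientGroup.mk' (Subgroup.center G)) (e (g * x * g⁻¹)) *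
      (QuotientGroup.mk' (Subgroup.center G)) f = (QuotientGroup.mk' (Subgroup.center G)) f *
      (QuotientGroup.mk' (Subgroup.center G)) (e (g * x * g⁻¹))
    rw [← map_mul, ← map_mul, ← hf, ← map_mul, ← map_mul]
    congr 2
    calc g * x * g⁻¹ * (g * f0 * g⁻¹) = g * (x * f0) * g⁻¹ := by group
      _ = g * (f0 * x) * g⁻¹ := by rw [hx]
      _ = _ := by group
  let θ : ↥(Subgroup.centralizer ({f0} : Set H)) →*
      ↥(Subgroup.centralizer {(QuotientGroup.mk f : G ⧸ Subgroup.center G)}) :=
    { toFun := fun x => ⟨(QuotientGroup.mk' (Subgroup.center G)) (e (g * x * g⁻¹)), hmem x⟩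
      map_one' := by
        apply Subtype.ext
        simp
      map_mul' := by
        intro x y
        apply Subtype.ext
        change (QuotientGroup.mk' (Subgroup.center G)) (e (g * (x * y) * g⁻¹)) =
          (QuotientGroup.mk' (Subgroup.center G)) (e (g * x * g⁻¹)) *
          (QuotientGroup.mk' (Subgroup.center G)) (e (g * y * g⁻¹))
        rw [← map_mul, ← map_mul]
        congr 2
        group }
  have hθ1 : ∀ x, θ x = 1 ↔ (x : H) ∈ Subgroup.center H := by
    intro x
    have : θ x = 1 ↔ (QuotientGroup.mk' (Subgroup.center G)) (e (g * x * g⁻¹)) = 1 := by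
      rw [← Subtype.coe_inj]; rfl
    rw [this, QuotientGroup.mk'_apply, QuotientGroup.eq_one_iff, ← hcen]
    constructor
    · intro h
      have := (inferInstance : (Subgroup.center H).Normal).conj_mem _ h g⁻¹
      simpa [mul_assoc] using this
    · intro h
      exact (inferInstance : (Subgroup.center H).Normal).conj_mem _ h g
  have hθs : Function.Surjective θ := by
    rintro ⟨y, hy⟩
    obtain ⟨y, rfl⟩ := QuotientGroup.mk'_surjective _ y
    obtain ⟨y, rfl⟩ := e.surjective y
    have h2 : g⁻¹ * y * g ∈ Subgroup.centralizer ({f0} : Set H) := by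
      rw [Subgroup.mem_centralizer_singleton_iff]
      apply h1
      rw [Subgroup.mem_centralizer_singleton_iff] at hy
      have h3 : (QuotientGroup.mk' (Subgroup.center G)) (e y * f * (e y)⁻¹ * f⁻¹) = 1 := by
        rw [map_mul, map_mul, map_mul, map_inv, map_inv]
        change (QuotientGroup.mk' (Subgroup.center G)) (e y) *
          (QuotientGroup.mk' (Subgroup.center G)) f = (QuotientGroup.mk' (Subgroup.center G)) f *
          (QuotientGroup.mk' (Subgroup.center G)) (e y) at hy
        rw [hy]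
        group
      rw [QuotientGroup.mk'_apply, QuotientGroup.eq_one_iff] at h3
      have h3' : y * (g * f0 * g⁻¹) * y⁻¹ * (g * f0 * g⁻¹)⁻¹ ∈ Subgroup.center H := by
        rw [hcen]
        simpa only [map_mul, map_inv, ← hf] using h3
      have h4 := (inferInstance : (Subgroup.center H).Normal).conj_mem _ h3' g⁻¹
      convert h4 using 1
      group
    refine ⟨⟨_, h2⟩, ?_⟩
    apply Subtype.ext
    change (QuotientGroup.mk' (Subgroup.center G)) (e (g * (g⁻¹ * y * g) * g⁻¹)) = _
    congr 2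
    group
  apply Cfsg.Agent.J2.ExtQuot.exists_normal_of_surjective θ hθs ρ hρ K
  · intro x hx h
    exact hK1 x hx ((hθ1 x).1 h)
  · exact hK2
  · intro x hx
    obtain ⟨z, k, hz, hk, h⟩ := hK3 x hx
    exact ⟨z, k, (hθ1 z).2 hz, hZ z hz, hk, h⟩
  · intro z hz
    exact hZ z ((hθ1 z).1 hz)

/-! ### the centraliser of the reflection in `(2,0,0)` -/

/-- the reflection in `(2,0,0)` -/
noncomputable def f0 : W := ⟨rf e1 root_e1, rf_mem _⟩

theorem f0_apply (v : Lam) : (((f0 : Equiv.Perm Lam) v : Lam) : Vec) =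
    ⟨-(v : Vec).x, (v : Vec).y, (v : Vec).z⟩ := refl_e1 _

theorem icos_add_self_eq_zero {x : Icos} (h : x = -x) : x = 0 := by
  apply add_self_injective
  rw [add_zero]
  nth_rewrite 1 [h]
  exact neg_add_cancel x

theorem f0_l1 : (f0 : Equiv.Perm Lam) l1 = -l1 := by
  apply Subtype.ext
  rw [f0_apply, l1_val, Submodule.coe_neg, l1_val]
  decide

/-- Elements commuting with `f0` map `e1` to a unit multiple. -/
theorem exists_lam {g : W} (hg : g * f0 = f0 * g) :
    ∃ u, nrm u = 1 ∧ (g : Equiv.Perm Lam) l1 = u • l1 := by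
  have h1 : (f0 : Equiv.Perm Lam) ((g : Equiv.Perm Lam) l1) = -((g : Equiv.Perm Lam) l1) := by
    have h2 : (g : Equiv.Perm Lam) ((f0 : Equiv.Perm Lam) l1) =
        (f0 : Equiv.Perm Lam) ((g : Equiv.Perm Lam) l1) :=
      congrArg (fun w : W => (w : Equiv.Perm Lam) l1) hg
    rw [← h2, f0_l1, W_neg g.2]
  have h3 := congrArg (fun v : Lam => (v : Vec)) h1
  simp only [f0_apply, Submodule.coe_neg] at h3
  have hy : ((g : Equiv.Perm Lam) l1 : Vec).y = 0 := icos_add_self_eq_zero (congrArg Vec.y h3)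
  have hz : ((g : Equiv.Perm Lam) l1 : Vec).z = 0 := icos_add_self_eq_zero (congrArg Vec.z h3)
  have hr := W_isRoot g.2 root_e1
  change IsRoot ((g : Equiv.Perm Lam) l1 : Vec) at hr
  have hn := (isRoot_iff.1 hr).2
  rw [hy, hz, normZ_eq, normZ_eq, nrm_zero, add_zero, add_zero] at hn
  obtain ⟨k1, k2, k3⟩ := hr.1
  rw [hy, sub_zero] at k1
  rw [hy, hz, add_zero, add_zero] at k3
  obtain ⟨c, hc, hs⟩ := coord_unit k1 k3 hn
  refine ⟨c, hc, Subtype.ext ?_⟩
  rw [Submodule.coe_smul, l1_val]
  ext1
  · rw [hs]; simp only [smul_x, e1, two_eq, mul_two]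
  · rw [hy]; simp only [smul_y, e1, mul_zero]
  · rw [hz]; simp only [smul_z, e1, mul_zero]

theorem smul_l1_injective {u v : Icos} (h : u • l1 = v • l1) : u = v := by
  have h1 := congrArg (fun v : Lam => (v : Vec).x) h
  simp only [Submodule.coe_smul, l1_val, smul_x, e1, two_eq, mul_two] at h1
  exact add_self_injective h1

/-- shorthand for the centraliser of `f0` in `W` -/
noncomputable abbrev C : Subgroup W := Subgroup.centralizer ({f0} : Set W)

theorem mem_C {g : W} : g ∈ C ↔ g * f0 = f0 * g := Subgroup.mem_centralizer_singleton_iff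

/-- the scalar by which an element of the centraliser acts on `(2,0,0)` -/
noncomputable def lam (g : C) : U :=
  ⟨(exists_lam (mem_C.1 g.2)).choose, mem_unitary_iff.2 (exists_lam (mem_C.1 g.2)).choose_spec.1⟩

theorem lam_spec (g : C) : ((g : W) : Equiv.Perm Lam) l1 = (lam g : Icos) • l1 :=
  (exists_lam (mem_C.1 g.2)).choose_spec.2

theorem lam_eq {g : C} {u : U} (h : ((g : W) : Equiv.Perm Lam) l1 = (u : Icos) • l1) :
    lam g = u := by
  apply Subtype.ext
  apply smul_l1_injective
  rw [← lam_spec, h]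

/-- The homomorphism from the centraliser to the binary icosahedral group. -/
noncomputable def mu : C →* U where
  toFun g := (lam g)⁻¹
  map_one' := by
    rw [inv_eq_one]
    apply lam_eq
    change (1 : Equiv.Perm Lam) l1 = (1 : Icos) • l1
    rw [one_smul]
    rfl
  map_mul' g g' := by
    rw [← mul_inv_rev, inv_inj]
    apply lam_eq
    change ((g : W) : Equiv.Perm Lam) (((g' : W) : Equiv.Perm Lam) l1) = _
    rw [lam_spec g', W_smul g.1.2, lam_spec g, smul_smul]
    rfl

theorem mu_apply (g : C) : mu g = (lam g)⁻¹ := rfl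

theorem mu_surjective : Function.Surjective mu := by
  intro u
  obtain ⟨g, hg, h⟩ := exists_unit (u := ((u⁻¹ : U) : Icos)) (mem_unitary_iff.1 (u⁻¹).2)
  have hC : (⟨g, hg⟩ : W) ∈ C := by
    rw [mem_C]
    have h1 := conj_rf hg root_e1
    have hu : ((u⁻¹ : U) : Icos) * star ((u⁻¹ : U) : Icos) = 1 :=
      (unit_of_nrm (mem_unitary_iff.1 (u⁻¹).2)).1
    have h2 : (g (pt root_e1) : Vec) = ((u⁻¹ : U) : Icos) • e1 := by
      change (g l1 : Vec) = _
      rw [h, Submodule.coe_smul, l1_val]
    rw [rf_congr (W_isRoot hg root_e1) (isRoot_smul root_e1 hu) h2, rf_smul root_e1 hu,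
      mul_inv_eq_iff_eq_mul] at h1
    exact Subtype.ext h1
  refine ⟨⟨⟨g, hg⟩, hC⟩, ?_⟩
  rw [mu_apply, lam_eq (u := u⁻¹) h, inv_inv]

theorem K_le_C : K ≤ C := by
  intro g hg
  rw [mem_C]
  have h1 := conj_rf g.2 root_e1
  have h2 : ((g : Equiv.Perm Lam) (pt root_e1) : Vec) = e1 := by
    change ((g : Equiv.Perm Lam) l1 : Vec) = _
    rw [mem_K.1 hg, l1_val]
  rw [rf_congr (W_isRoot g.2 root_e1) root_e1 h2, mul_inv_eq_iff_eq_mul] at h1
  exact Subtype.ext h1

/-- A central element fixing `(2,0,0)` is trivial. -/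
theorem eq_one_of_center {z : W} (hz : z ∈ Subgroup.center W)
    (h : (z : Equiv.Perm Lam) l1 = l1) : z = 1 := by
  have key : ∀ (l : Lam), IsRoot (l : Vec) → (z : Equiv.Perm Lam) l = l := by
    intro l hl
    obtain ⟨g, hg, hgl⟩ := trans_roots hl
    have hgl' : g l1 = l := Subtype.ext hgl
    rw [Subgroup.mem_center_iff] at hz
    have h1 := congrArg (fun w : W => (w : Equiv.Perm Lam) l1) (hz ⟨g, hg⟩)
    change g ((z : Equiv.Perm Lam) l1) = (z : Equiv.Perm Lam) (g l1) at h1
    rw [h, hgl'] at h1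
    exact h1.symm
  apply Subtype.ext
  apply W_ext z.2 (one_mem _)
  · exact h
  · exact key l2 root_e2
  · exact key l3 root_e3

/-- `-1` as an element of `W` -/
noncomputable def negW : W := ⟨Equiv.neg Lam, neg_mem_W⟩

theorem negW_apply (v : Lam) : (negW : Equiv.Perm Lam) v = -v := rfl

theorem negW_center : negW ∈ Subgroup.center W := neg_mem_center

theorem center_unit_check : ∀ u ∈ units, uI * u = u * uI → uJ * u = u * uJ →
    u = 1 ∨ u = -1 := by decide +kernel

theorem nrm_uI : nrm uI = 1 := by decide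
theorem nrm_uJ : nrm uJ = 1 := by decide

/-- A central element of `W` is `1` or `-1`. -/
theorem center_W {z : W} (hz : z ∈ Subgroup.center W) : z = 1 ∨ z = negW := by
  have hzC : z ∈ C := by
    rw [mem_C, Subgroup.mem_center_iff.1 hz]
  obtain ⟨u, hu, h⟩ := exists_lam (mem_C.1 hzC)
  have hcomm : ∀ v, nrm v = 1 → v * u = u * v := by
    intro v hv
    obtain ⟨g, hg, hgl⟩ := exists_unit hv
    have h1 := congrArg (fun w : W => (w : Equiv.Perm Lam) l1)
      (Subgroup.mem_center_iff.1 hz ⟨g, hg⟩)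
    change g ((z : Equiv.Perm Lam) l1) = (z : Equiv.Perm Lam) (g l1) at h1
    rw [h, hgl, W_smul hg, hgl, W_smul z.2, h, smul_smul, smul_smul] at h1
    exact (smul_l1_injective h1).symm
  rcases center_unit_check u (mem_units_iff.2 hu) (hcomm uI nrm_uI) (hcomm uJ nrm_uJ) with h1 | h1
  · left
    apply eq_one_of_center hz
    rw [h, h1, one_smul]
  · right
    have h2 : negW * z = 1 := by
      apply eq_one_of_center (mul_mem negW_center hz)
      change -((z : Equiv.Perm Lam) l1) = l1
      rw [h, h1, neg_smul, one_smul, neg_neg]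
    have h3 : negW * negW = 1 := by
      apply Subtype.ext
      ext1 v
      exact neg_neg v
    calc z = (negW * negW) * z := by rw [h3, one_mul]
      _ = negW * (negW * z) := by rw [mul_assoc]
      _ = negW := by rw [h2, mul_one]

theorem icos_mul_eq_zero {a b : Icos} (h : a * b = 0) : a = 0 ∨ b = 0 := by
  have h1 := congrArg toQ h
  rw [map_mul, map_zero, mul_eq_zero] at h1
  rcases h1 with h1 | h1
  · left; exact toQ_injective (by rw [h1, map_zero])
  · right; exact toQ_injective (by rw [h1, map_zero])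

/-- The negative of the reflection `f0` is not a reflection. -/
theorem neg_f0_ne {r : Vec} (hr : IsRoot r) : rf r hr ≠ (negW : Equiv.Perm Lam) * f0 := by
  intro h
  have h2 := congrArg (fun w : Equiv.Perm Lam => (w l2 : Vec)) h
  have h3 := congrArg (fun w : Equiv.Perm Lam => (w l3 : Vec)) h
  have k2 : ((((negW : Equiv.Perm Lam) * f0) l2 : Lam) : Vec) = -e2 := by
    rw [Equiv.Perm.mul_apply, negW_apply, Submodule.coe_neg, f0_apply, l2_val]
    decide
  have k3 : ((((negW : Equiv.Perm Lam) * f0) l3 : Lam) : Vec) = -e3 := by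
    rw [Equiv.Perm.mul_apply, negW_apply, Submodule.coe_neg, f0_apply, l3_val]
    decide
  simp only [rf_apply, l2_val, l3_val] at h2 h3
  rw [k2] at h2
  rw [k3] at h3
  have m2 : hip e2 r • r = e2 + e2 := by
    have h4 : e2 - hip e2 r • r = -e2 := h2
    calc hip e2 r • r = e2 - (e2 - hip e2 r • r) := by abel
      _ = e2 - (-e2) := by rw [h4]
      _ = e2 + e2 := by abel
  have m3 : hip e3 r • r = e3 + e3 := by
    have h4 : e3 - hip e3 r • r = -e3 := h3
    calc hip e3 r • r = e3 - (e3 - hip e3 r • r) := by abel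
      _ = e3 - (-e3) := by rw [h4]
      _ = e3 + e3 := by abel
  have y2 : hip e2 r * r.y = two + two := congrArg Vec.y m2
  have z2 : hip e2 r * r.z = 0 := by
    have := congrArg Vec.z m2
    rw [smul_z] at this
    rw [this]; decide
  have z3 : hip e3 r * r.z = two + two := congrArg Vec.z m3
  rcases icos_mul_eq_zero z2 with h0 | h0
  · rw [h0, zero_mul] at y2
    exact absurd y2 (by decide)
  · rw [h0, mul_zero] at z3
    exact absurd z3 (by decide)

/-- If `x f0 x⁻¹ f0⁻¹` is central then `x` commutes with `f0`. -/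
theorem comm_of_center (x : W) (hx : x * f0 * x⁻¹ * f0⁻¹ ∈ Subgroup.center W) :
    x * f0 = f0 * x := by
  rcases center_W hx with h | h
  · rw [mul_inv_eq_one, mul_inv_eq_iff_eq_mul] at h
    exact h
  · exfalso
    rw [mul_inv_eq_iff_eq_mul] at h
    have h1 := congrArg (fun w : W => (w : Equiv.Perm Lam)) h
    have h2 := conj_rf x.2 root_e1
    change (x : Equiv.Perm Lam) * rf e1 root_e1 * (x : Equiv.Perm Lam)⁻¹ =
      (negW : Equiv.Perm Lam) * f0 at h1
    rw [h2] at h1
    exact neg_f0_ne _ h1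

/-- Elements of the centraliser with trivial image in `A₅`. -/
theorem ker_cases {x : C} (h : lam x = 1 ∨ lam x = negOne) :
    ∃ z k : C, (z : W) ∈ Subgroup.center W ∧ k ∈ K.subgroupOf C ∧ x = z * k := by
  rcases h with h | h
  · refine ⟨1, x, one_mem _, ?_, (one_mul x).symm⟩
    rw [Subgroup.mem_subgroupOf, mem_K, lam_spec, h]
    change (1 : Icos) • l1 = l1
    rw [one_smul]
  · have hC : negW ∈ C := by
      rw [mem_C, Subgroup.mem_center_iff.1 negW_center]
    have h3 : negW * negW = 1 := by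
      apply Subtype.ext
      ext1 v
      exact neg_neg v
    refine ⟨⟨negW, hC⟩, ⟨negW, hC⟩ * x, negW_center, ?_, ?_⟩
    · rw [Subgroup.mem_subgroupOf, mem_K]
      change -(((x : W) : Equiv.Perm Lam) l1) = l1
      rw [lam_spec, h]
      change -((-1 : Icos) • l1) = l1
      rw [neg_smul, one_smul, neg_neg]
    · rw [← mul_assoc]
      have h4 : (⟨negW, hC⟩ : C) * ⟨negW, hC⟩ = 1 := Subtype.ext h3
      rw [h4, one_mul]

theorem negOne_inv : (negOne)⁻¹ = negOne := by
  apply Subtype.ext
  change star (-1 : Icos) = -1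
  decide

/-- The structure of the centraliser of the image of a reflection in `J₂`. -/
theorem centralizer_structure (f : twoJ2) (g : W) (hf : equivTwoJ2 (g * f0 * g⁻¹) = f) :
    ∃ (Q : Subgroup ↥(Subgroup.centralizer {(QuotientGroup.mk f : J2)})) (_ : Q.Normal),
      Nat.card Q = 32 ∧ Cfsg.IsExtraspecial 2 Q ∧
      Nonempty (↥(Subgroup.centralizer {(QuotientGroup.mk f : J2)}) ⧸ Q ≃*
        alternatingGroup (Fin 5)) := by
  obtain ⟨π, hπs, hπk⟩ := exists_pi
  have hρ : ∀ x : C, (π.comp mu) x = 1 ↔ lam x = 1 ∨ lam x = negOne := by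
    intro x
    rw [MonoidHom.comp_apply, hπk, mu_apply]
    constructor
    · rintro (h | h)
      · left; rwa [inv_eq_one] at h
      · right; rw [← inv_inv (lam x), h, negOne_inv]
    · rintro (h | h)
      · left; rw [h, inv_one]
      · right; rw [h, negOne_inv]
  obtain ⟨Q, hQ, ⟨eQ⟩, hA⟩ := centralizer_quotient_equiv equivTwoJ2 f0 g f hf comm_of_center
    (π.comp mu) (hπs.comp mu_surjective) (K.subgroupOf C)
    (fun x hx hz => Subtype.ext (eq_one_of_center hz (mem_K.1 (Subgroup.mem_subgroupOf.1 hx))))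
    (by
      intro x hx
      rw [hρ]
      left
      apply lam_eq
      rw [mem_K.1 (Subgroup.mem_subgroupOf.1 hx)]
      change l1 = (1 : Icos) • l1
      rw [one_smul])
    (by
      intro z hz
      rw [hρ]
      rcases center_W hz with h | h
      · left
        apply lam_eq
        rw [h]
        change l1 = (1 : Icos) • l1
        rw [one_smul]
      · right
        apply lam_eq
        rw [h]
        change -l1 = (-1 : Icos) • l1
        rw [neg_smul, one_smul])
    (fun x hx => ker_cases ((hρ x).1 hx))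
  have e2 : K.subgroupOf C ≃* K := Subgroup.subgroupOfEquivOfLe K_le_C
  refine ⟨Q, hQ, ?_, ?_, hA⟩
  · rw [← card_K]
    exact Nat.card_congr (eQ.symm.trans e2).toEquiv
  · exact Cfsg.Agent.J2.ExtQuot.isExtraspecial_of_equiv (e2.symm.trans eQ) isExtraspecial_K

end Cfsg.Agent.J2.Centralizer
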