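import Cfsg.Agent.J2.Conj
set_option linter.all false

/-!
# A normal subgroup of `W` containing −1 and a product of two different reflections is `W`
-/

set_option autoImplicit false
set_option linter.unusedSimpArgs false

open Quaternion

namespace Cfsg.Agent.J2.Simple

open Cfsg.Spor Cfsg.Agent.J2.ZTau Cfsg.Agent.J2.Ico Cfsg.Agent.J2.Lattice Cfsg.Agent.J2.Refl
  Cfsg.Agent.J2.Group Cfsg.Agent.J2.Norm Cfsg.Agent.J2.Shapes Cfsg.Agent.J2.Units
  Cfsg.Agent.J2.Conj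

/-- units `u` with `1 - τ u ∈ I h` -/
def LT : List Icos :=
  [⟨⟨-2, 1⟩, ⟨0, 0⟩, ⟨1, -1⟩, ⟨-1, 1⟩⟩,
   ⟨⟨-1, 0⟩, ⟨1, -1⟩, ⟨-1, 1⟩, ⟨-1, 1⟩⟩,
   ⟨⟨-1, 1⟩, ⟨-1, 0⟩, ⟨1, -1⟩, ⟨-1, 1⟩⟩,
   ⟨⟨0, 0⟩, ⟨-2, 1⟩, ⟨1, -1⟩, ⟨1, -1⟩⟩,
   ⟨⟨0, 0⟩, ⟨2, -1⟩, ⟨-1, 1⟩, ⟨-1, 1⟩⟩,
   ⟨⟨1, -1⟩, ⟨1, 0⟩, ⟨-1, 1⟩, ⟨1, -1⟩⟩,
   ⟨⟨1, 0⟩, ⟨-1, 1⟩, ⟨1, -1⟩, ⟨1, -1⟩⟩,
   ⟨⟨2, -1⟩, ⟨0, 0⟩, ⟨-1, 1⟩, ⟨1, -1⟩⟩]

/-- units `u` with `1 - σ u ∈ I h` -/
def LS : List Icos :=
  [⟨⟨-2, 1⟩, ⟨-1, 0⟩, ⟨1, -1⟩, ⟨-1, 1⟩⟩,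
   ⟨⟨-1, 0⟩, ⟨2, -1⟩, ⟨-1, 1⟩, ⟨-1, 1⟩⟩,
   ⟨⟨-1, 1⟩, ⟨0, 0⟩, ⟨1, -1⟩, ⟨-1, 1⟩⟩,
   ⟨⟨0, 0⟩, ⟨-1, 1⟩, ⟨1, -1⟩, ⟨1, -1⟩⟩,
   ⟨⟨0, 0⟩, ⟨1, -1⟩, ⟨-1, 1⟩, ⟨-1, 1⟩⟩,
   ⟨⟨1, -1⟩, ⟨0, 0⟩, ⟨-1, 1⟩, ⟨1, -1⟩⟩,
   ⟨⟨1, 0⟩, ⟨-2, 1⟩, ⟨1, -1⟩, ⟨1, -1⟩⟩,
   ⟨⟨2, -1⟩, ⟨1, 0⟩, ⟨-1, 1⟩, ⟨1, -1⟩⟩]

theorem checkT : ∀ u ∈ units, hB (1 - T • u) = true → u ∈ LT := by decide +kernel
theorem checkS : ∀ u ∈ units, hB (1 - S • u) = true → u ∈ LS := by decide +kernel

/-- a root orthogonal to `e1` -/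
def t3 : Vec := ⟨0, hh, ⟨⟨-2, 2⟩, ⟨1, 0⟩, ⟨1, -1⟩, ⟨-3, 1⟩⟩⟩
/-- a root orthogonal to `e1` -/
def t4 : Vec := ⟨0, hh, ⟨⟨2, -2⟩, ⟨-1, 0⟩, ⟨-1, 1⟩, ⟨3, -1⟩⟩⟩

theorem root_t3 : IsRoot t3 := rootB_iff.1 (by decide)
theorem root_t4 : IsRoot t4 := rootB_iff.1 (by decide)

theorem checkTS : ∀ u ∈ LT, ∀ v ∈ LS, lamB ⟨1, T • u, S • v⟩ = true →
    nrm (hip ⟨1, T • u, S • v⟩ t3) = ⟨2, 0⟩ ∨ nrm (hip ⟨1, T • u, S • v⟩ t4) = ⟨2, 0⟩ := by
  decide +kernel

theorem checkST : ∀ u ∈ LT, ∀ v ∈ LS, lamB ⟨1, S • v, T • u⟩ = true →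
    nrm (hip ⟨1, S • v, T • u⟩ t3) = ⟨2, 0⟩ ∨ nrm (hip ⟨1, S • v, T • u⟩ t4) = ⟨2, 0⟩ := by
  decide +kernel

variable {M : Subgroup (Equiv.Perm Lam)}

/-- `M` is normalised by `W`. -/
def Nrml (M : Subgroup (Equiv.Perm Lam)) : Prop := ∀ g ∈ W, ∀ n ∈ M, g * n * g⁻¹ ∈ M

theorem le_of_mem (hM : Nrml M) {r : Vec} (hr : IsRoot r) (h : rf r hr ∈ M) : W ≤ M := by
  unfold W
  rw [Subgroup.closure_le]
  rintro f ⟨s, hs, rfl⟩
  obtain ⟨g, hg, e⟩ := rf_conj hr hs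
  rw [← e]
  exact hM g hg _ h

theorem rf_e1_smul {c : Icos} (hc : nrm c = 1) {r : Vec} (hr : IsRoot r) {s : Vec} (hs : IsRoot s)
    (e : s = c • r) : rf s hs = rf r hr := by
  subst e
  exact rf_smul hr (mul_star_one hc)

/-- the three orthogonal roots `e1`, `(0,y,z)`, `(0,-y,z)` -/
theorem refl_pair {s s' : Vec} (hs : IsRoot s) (hs' : IsRoot s') (hx : s.x = 0)
    (hy : nrm s.y = 2) (hz : nrm s.z = 2) (e : s' = ⟨0, -s.y, s.z⟩) (v : Lam) :
    refl s (refl s' v) = ⟨(v : Vec).x, -(v : Vec).y, -(v : Vec).z⟩ := by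
  have hyy : star s.y * s.y = 2 := by rw [star_mul_eq, hy, ofZt_two]
  have hzz : star s.z * s.z = 2 := by rw [star_mul_eq, hz, ofZt_two]
  have hyy' : s.y * star s.y = 2 := by rw [mul_star_eq, hy, ofZt_two]
  have hzz' : s.z * star s.z = 2 := by rw [mul_star_eq, hz, ofZt_two]
  have h0 : hip s' s = 0 := by
    apply add_self_injective
    rw [hip_add_hip hs'.1 hs.1, e]
    simp only [ip, hx, zero_mul, neg_mul, hyy', hzz']
    norm_num
  have h1 : refl s (refl s' v) = v - hip v s' • s' - hip v s • s := by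
    unfold Lattice.refl
    rw [hip_sub_left v.2 (hs'.1.smul _) hs.1, hip_smul_left _ hs'.1 hs.1, h0, mul_zero, sub_zero]
  have hc : hip (v : Vec) s + hip (v : Vec) s =
      (v : Vec).y * star s.y + (v : Vec).z * star s.z := by
    rw [hip_add_hip v.2 hs.1]
    simp only [ip, hx, star_zero, mul_zero, zero_add]
  have hc' : hip (v : Vec) s' + hip (v : Vec) s' =
      -((v : Vec).y * star s.y) + (v : Vec).z * star s.z := by
    rw [hip_add_hip v.2 hs'.1, e]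
    simp only [ip, star_zero, mul_zero, zero_add, star_neg, mul_neg]
  rw [h1]
  generalize hip (v : Vec) s = c at *
  generalize hip (v : Vec) s' = c' at *
  ext1
  · simp only [sub_x, smul_x, hx, e, mul_zero, sub_zero]
  · simp only [sub_y, smul_y, e]
    apply add_self_injective
    generalize (v : Vec).y = vy at *
    generalize (v : Vec).z = vz at *
    linear_combination (norm := noncomm_ring) hc' * s.y - hc * s.y - 2 * vy * hyy
  · simp only [sub_z, smul_z, e]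
    apply add_self_injective
    generalize (v : Vec).y = vy at *
    generalize (v : Vec).z = vz at *
    linear_combination (norm := noncomm_ring) -hc' * s.z - hc * s.z - 2 * vz * hzz

theorem claimA (hM : Nrml M) (hneg : (Equiv.neg Lam : Equiv.Perm Lam) ∈ M) {s : Vec}
    (hs : IsRoot s) (hx : s.x = 0) (h : rf e1 root_e1 * rf s hs ∈ M) : W ≤ M := by
  have hx' : nrm s.x = 0 := by rw [hx, nrm_zero]
  rcases shapes hs with h9 | ⟨a, b, ha, hb, e⟩ | ⟨a, b, ha, hb, e⟩ | ⟨a, b, ha, hb, e⟩ |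
    ⟨c, hc, e⟩ | ⟨c, hc, e⟩ | ⟨c, hc, e⟩
  · exfalso
    rw [hx'] at h9
    rcases h9 with h | h | h | h | h | h | h | h | h <;> exact absurd h.1 (by decide)
  · exfalso
    rw [e] at hx'
    simp only [nrm_mul, ha, nrm_hh] at hx'
    exact absurd hx' (by decide)
  · exfalso
    rw [e] at hx'
    simp only [nrm_mul, ha, nrm_hh] at hx'
    exact absurd hx' (by decide)
  · have hy : nrm s.y = 2 := by rw [e]; simp only [nrm_mul, ha, nrm_hh, one_mul]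
    have hz : nrm s.z = 2 := by rw [e]; simp only [nrm_mul, hb, nrm_hh, one_mul]
    have hs' : IsRoot (rf e2 root_e2 (pt hs) : Vec) := W_isRoot (rf_mem root_e2) hs
    have e' : (rf e2 root_e2 (pt hs) : Vec) = ⟨0, -s.y, s.z⟩ := by
      rw [rf_apply, pt_val, refl_e2, hx]
    have key : rf e1 root_e1 * rf s hs * rf _ hs' = Equiv.neg Lam := by
      ext1 v
      apply Subtype.ext
      rw [Equiv.Perm.mul_apply, Equiv.Perm.mul_apply, rf_apply, rf_apply, rf_apply,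
        refl_pair hs hs' hx hy hz e', refl_e1]
      rfl
    have h2 : rf _ hs' ∈ M := by
      have := mul_mem (inv_mem h) hneg
      rw [← key, ← mul_assoc, inv_mul_cancel, one_mul] at this
      exact this
    exact le_of_mem hM hs' h2
  · exfalso
    rw [e, smul_x, nrm_mul, hc] at hx'
    exact absurd hx' (by decide)
  · rw [rf_e1_smul hc root_e2 hs e] at h
    have h2 : rf e3 root_e3 ∈ M := by
      have := mul_mem (inv_mem h) hneg
      rw [← rf_e1_e2_e3, ← mul_assoc, inv_mul_cancel, one_mul] at this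
      exact this
    exact le_of_mem hM root_e3 h2
  · rw [rf_e1_smul hc root_e3 hs e] at h
    have h2 : rf e2 root_e2 ∈ M := by
      have h3 := mul_mem h hneg
      have e4 : rf e1 root_e1 * rf e3 root_e3 * Equiv.neg Lam = rf e2 root_e2 := by
        ext1 v
        apply Subtype.ext
        rw [Equiv.Perm.mul_apply, Equiv.Perm.mul_apply, rf_apply, rf_apply, rf_apply, refl_e3,
          refl_e2, refl_e1]
        have e5 : ((Equiv.neg Lam v : Lam) : Vec) = -(v : Vec) := rfl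
        rw [e5]
        ext1 <;> simp
      rwa [e4] at h3
    exact le_of_mem hM root_e2 h2

theorem move (hM : Nrml M) {r s : Vec} (hr : IsRoot r) (hs : IsRoot s)
    (h : rf r hr * rf s hs ∈ M) :
    ∃ (s' : Vec) (hs' : IsRoot s'), rf e1 root_e1 * rf s' hs' ∈ M ∧
      nrm s'.x = nrm (hip s r) := by
  obtain ⟨_, g, u, hg, hu, e⟩ := (lk_all hr).symm hr
  refine ⟨(g (pt hs) : Vec), W_isRoot hg hs, ?_, ?_⟩
  · have h1 := hM g hg _ h
    have h2 : g * (rf r hr * rf s hs) * g⁻¹ = (g * rf r hr * g⁻¹) * (g * rf s hs * g⁻¹) := by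
      group
    rw [h2, conj_rf hg hr, conj_rf hg hs, rf_e1_smul hu root_e1 (W_isRoot hg hr) e] at h1
    exact h1
  · have h1 := W_hip hg (pt hs) (pt hr)
    rw [e, hip_smul_right u (g (pt hs)).2 root_e1.1, hip_e1, pt_val, pt_val] at h1
    rw [← h1, nrm_mul, nrm_star, hu, mul_one]

theorem claimC (hM : Nrml M) (hneg : (Equiv.neg Lam : Equiv.Perm Lam) ∈ M) {s : Vec}
    (hs : IsRoot s) (hx : nrm s.x = 2) (h : rf e1 root_e1 * rf s hs ∈ M) : W ≤ M := by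
  have hg := rf_mem hs
  have h1 : rf e1 root_e1 * (rf s hs * rf e1 root_e1 * (rf s hs)⁻¹) ∈ M := by
    have h2 := mul_mem h h
    rw [rf_inv]
    rwa [mul_assoc, ← mul_assoc (rf s hs)] at h2
  rw [conj_rf hg root_e1] at h1
  refine claimA hM hneg (W_isRoot hg root_e1) ?_ h1
  rw [rf_apply, pt_val]
  unfold Lattice.refl
  rw [sub_x, smul_x, ← star_hip hs.1 root_e1.1, hip_e1, star_mul_eq, hx, ofZt_two]
  exact sub_eq_zero.2 two_eq

theorem claimD (hM : Nrml M) {s t : Vec} (hs : IsRoot s) (ht : IsRoot t) (htx : t.x = 0)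
    (h : rf e1 root_e1 * rf s hs ∈ M) :
    ∃ (s' : Vec) (hs' : IsRoot s'), rf e1 root_e1 * rf s' hs' ∈ M ∧
      nrm s'.x = (2 - nrm (hip s t)) * (2 - nrm (hip s t)) := by
  have hg := rf_mem ht
  have comm : rf e1 root_e1 * rf t ht = rf t ht * rf e1 root_e1 := by
    have h1 := conj_rf (rf_mem root_e1) ht
    have h2 : ((rf e1 root_e1 (pt ht) : Lam) : Vec) = t := by
      rw [rf_apply, pt_val, refl_e1, htx, neg_zero]
      ext1
      · exact htx.symm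
      · rfl
      · rfl
    rw [rf_congr (W_isRoot (rf_mem root_e1) ht) ht h2] at h1
    exact mul_inv_eq_iff_eq_mul.1 h1
  have h1 : rf s hs * (rf t ht * rf s hs * (rf t ht)⁻¹) ∈ M := by
    have h2 := hM _ hg _ h
    have h3 := mul_mem (inv_mem h) h2
    have h4 : (rf e1 root_e1 * rf s hs)⁻¹ * (rf t ht * (rf e1 root_e1 * rf s hs) * (rf t ht)⁻¹) =
        rf s hs * (rf t ht * rf s hs * (rf t ht)⁻¹) := by
      rw [mul_inv_rev, rf_inv root_e1, rf_inv hs, ← mul_assoc (rf t ht), ← comm]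
      have h5 := rf_mul_self root_e1
      calc rf s hs * rf e1 root_e1 * (rf e1 root_e1 * rf t ht * rf s hs * (rf t ht)⁻¹)
          = rf s hs * (rf e1 root_e1 * rf e1 root_e1) * (rf t ht * rf s hs * (rf t ht)⁻¹) := by
            simp only [mul_assoc]
        _ = _ := by rw [h5, mul_one]
    rwa [h4] at h3
  rw [conj_rf hg hs] at h1
  obtain ⟨s', hs', h2, h3⟩ := move hM hs (W_isRoot hg hs) h1
  refine ⟨s', hs', h2, ?_⟩
  rw [h3, rf_apply, pt_val]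
  unfold Lattice.refl
  rw [hip_sub_left hs.1 (ht.1.smul _) hs.1, hip_smul_left _ ht.1 hs.1, hip_self hs,
    ← star_hip hs.1 ht.1, mul_star_eq, ← ofZt_two, ← ofZt_sub]
  generalize 2 - nrm (hip s t) = m
  rw [nrm_def]; simp only [ofZt]; ring

theorem TS_eq (x : Icos) (c : Zt) (d : Zt) (h : c * d = 1) : x = c • (d • x) := by
  ext1 <;> simp only [smul_p0, smul_p1, smul_p2, smul_p3, ← mul_assoc, h, one_mul]

theorem nrm_smul (c : Zt) (x : Icos) : nrm (c • x) = c * c * nrm x := by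
  rw [smul_eq_ofZt_mul, nrm_mul]
  congr 1
  rw [nrm_def]; simp only [ofZt]; ring

theorem smul_mul_comm (c : Zt) (a x : Icos) : a * (c • x) = c • (a * x) := by
  rw [smul_eq_ofZt_mul, smul_eq_ofZt_mul, ← mul_assoc, ← ofZt_comm, mul_assoc]

/-- `y = τ u` with `u` a unit -/
theorem exists_T {y : Icos} (h : nrm y = ⟨1, 1⟩) : ∃ u, nrm u = 1 ∧ y = T • u :=
  ⟨(-S) • y, by rw [nrm_smul, h]; decide, TS_eq y T (-S) (by decide)⟩

/-- `y = σ u` with `u` a unit -/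
theorem exists_S {y : Icos} (h : nrm y = ⟨2, -1⟩) : ∃ u, nrm u = 1 ∧ y = S • u :=
  ⟨(-T) • y, by rw [nrm_smul, h]; decide, TS_eq y S (-T) (by decide)⟩

/-- normalise the first coordinate of a root to 1 -/
theorem normalise {s : Vec} (hs : IsRoot s) (h1 : nrm s.x = 1) :
    ∃ (s' : Vec) (hs' : IsRoot s'), s'.x = 1 ∧ nrm s'.y = nrm s.y ∧ nrm s'.z = nrm s.z ∧
      rf s' hs' = rf s hs := by
  have hu : nrm (star s.x) = 1 := by rw [nrm_star, h1]
  refine ⟨star s.x • s, isRoot_smul hs (mul_star_one hu), ?_, ?_, ?_,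
    rf_smul hs (mul_star_one hu)⟩
  · rw [smul_x, star_mul_one h1]
  · rw [smul_y, nrm_mul, hu, one_mul]
  · rw [smul_z, nrm_mul, hu, one_mul]

theorem inH_neg_iff {x : Icos} : InH (-x) ↔ InH x :=
  ⟨fun h => by have := h.neg; rwa [neg_neg] at this, fun h => h.neg⟩

theorem claimE9 {s : Vec} (hs : IsRoot s) (hx : s.x = 1)
    (h : (nrm s.y = ⟨1, 1⟩ ∧ nrm s.z = ⟨2, -1⟩) ∨ (nrm s.y = ⟨2, -1⟩ ∧ nrm s.z = ⟨1, 1⟩)) :
    nrm (hip s t3) = ⟨2, 0⟩ ∨ nrm (hip s t4) = ⟨2, 0⟩ := by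
  have hl := hs.1
  obtain ⟨l1, l2, l3⟩ := hl
  have l12 := l1.add l2
  rw [sub_add_sub_cancel, hx] at l12
  rw [hx] at l1
  rcases h with ⟨hy, hz⟩ | ⟨hy, hz⟩
  · obtain ⟨u, hu, e1⟩ := exists_T hy
    obtain ⟨v, hv, e2⟩ := exists_S hz
    rw [e1] at l1
    rw [e2] at l12
    have m1 := checkT u (mem_units_iff.2 hu) (hB_iff.2 l1)
    have m2 := checkS v (mem_units_iff.2 hv) (hB_iff.2 l12)
    have e : s = ⟨1, T • u, S • v⟩ := by
      ext1
      · exact hx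
      · exact e1
      · exact e2
    have h3 := checkTS u m1 v m2 (lamB_iff.2 (e ▸ hs.1))
    rw [e]; exact h3
  · obtain ⟨u, hu, e1⟩ := exists_S hy
    obtain ⟨v, hv, e2⟩ := exists_T hz
    rw [e1] at l1
    rw [e2] at l12
    have m1 := checkS u (mem_units_iff.2 hu) (hB_iff.2 l1)
    have m2 := checkT v (mem_units_iff.2 hv) (hB_iff.2 l12)
    have e : s = ⟨1, S • u, T • v⟩ := by
      ext1
      · exact hx
      · exact e1
      · exact e2
    have h3 := checkST v m2 u m1 (lamB_iff.2 (e ▸ hs.1))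
    rw [e]; exact h3

/-- if a root `t` orthogonal to `e1` has `N(½ s·t) = 2` we are done -/
theorem claimE0 (hM : Nrml M) (hneg : (Equiv.neg Lam : Equiv.Perm Lam) ∈ M) {s t : Vec}
    (hs : IsRoot s) (ht : IsRoot t) (htx : t.x = 0) (h : rf e1 root_e1 * rf s hs ∈ M)
    (h2 : nrm (hip s t) = ⟨2, 0⟩) : W ≤ M := by
  obtain ⟨s', hs', h3, h4⟩ := claimD hM hs ht htx h
  rw [h2] at h4
  have h5 : nrm s'.x = 0 := by rw [h4]; decide
  exact claimA hM hneg hs' (nrm_eq_zero.1 h5) h3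

theorem not_of_nrm {z : Zt} {a b : Icos} (ha : nrm a = 1) (hb : b = a * hh) (h : nrm b = z)
    (hz : z ≠ ⟨2, 0⟩) : False := by
  apply hz
  rw [← h, hb, nrm_mul, ha, nrm_hh]
  decide

theorem claimE (hM : Nrml M) (hneg : (Equiv.neg Lam : Equiv.Perm Lam) ∈ M) {s : Vec}
    (hs : IsRoot s) (hx : nrm s.x = 1) (h : rf e1 root_e1 * rf s hs ∈ M) : W ≤ M := by
  rcases shapes hs with h9 | ⟨a, b, ha, hb, e⟩ | ⟨a, b, ha, hb, e⟩ | ⟨a, b, ha, hb, e⟩ |
    ⟨c, hc, e⟩ | ⟨c, hc, e⟩ | ⟨c, hc, e⟩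
  · -- the two mixed cases
    have mixed : ((nrm s.y = ⟨1, 1⟩ ∧ nrm s.z = ⟨2, -1⟩) ∨ (nrm s.y = ⟨2, -1⟩ ∧ nrm s.z = ⟨1, 1⟩)) →
        W ≤ M := by
      intro hyz
      obtain ⟨s', hs', hx', hy', hz', e'⟩ := normalise hs hx
      rw [← e'] at h
      rw [← hy', ← hz'] at hyz
      rcases claimE9 hs' hx' hyz with h2 | h2
      · exact claimE0 hM hneg hs' root_t3 rfl h h2
      · exact claimE0 hM hneg hs' root_t4 rfl h h2
    rcases h9 with ⟨h1, h2, h3⟩ | ⟨h1, h2, h3⟩ | ⟨h1, h2, h3⟩ | ⟨h1, h2, h3⟩ | ⟨h1, h2, h3⟩ |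
      ⟨h1, h2, h3⟩ | ⟨h1, h2, h3⟩ | ⟨h1, h2, h3⟩ | ⟨h1, h2, h3⟩
    · rw [hx] at h1; exact absurd h1 (by decide)
    · exact claimE0 hM hneg hs root_e2 rfl h (by rw [hip_e2, h2])
    · exact claimE0 hM hneg hs root_e3 rfl h (by rw [hip_e3, h3])
    · exact mixed (Or.inl ⟨h2, h3⟩)
    · exact mixed (Or.inr ⟨h2, h3⟩)
    · rw [hx] at h1; exact absurd h1 (by decide)
    · rw [hx] at h1; exact absurd h1 (by decide)
    · rw [hx] at h1; exact absurd h1 (by decide)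
    · rw [hx] at h1; exact absurd h1 (by decide)
  · exact (not_of_nrm ha (congrArg Vec.x e) hx (by decide)).elim
  · exact (not_of_nrm ha (congrArg Vec.x e) hx (by decide)).elim
  · have hx0 : s.x = 0 := by rw [e]
    rw [hx0, nrm_zero] at hx
    exact absurd hx (by decide)
  · rw [e, smul_x, nrm_mul, hc] at hx; exact absurd hx (by decide)
  · rw [e, smul_x] at hx
    simp only [e2, mul_zero] at hx
    exact absurd hx (by decide)
  · rw [e, smul_x] at hx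
    simp only [e3, mul_zero] at hx
    exact absurd hx (by decide)

/-- if `N(s.y) = 1` or `N(s.z) = 1` we can pass to `N = 1` in the first coordinate -/
theorem claimF0 (hM : Nrml M) (hneg : (Equiv.neg Lam : Equiv.Perm Lam) ∈ M) {s : Vec}
    (hs : IsRoot s) (h : rf e1 root_e1 * rf s hs ∈ M) (h2 : nrm s.y = 1 ∨ nrm s.z = 1) :
    W ≤ M := by
  rcases h2 with h2 | h2
  · obtain ⟨s', hs', h3, h4⟩ := claimD hM hs root_e2 rfl h
    rw [hip_e2, h2] at h4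
    exact claimE hM hneg hs' (by rw [h4]; decide) h3
  · obtain ⟨s', hs', h3, h4⟩ := claimD hM hs root_e3 rfl h
    rw [hip_e3, h2] at h4
    exact claimE hM hneg hs' (by rw [h4]; decide) h3

theorem claim_e1 (hM : Nrml M) (hneg : (Equiv.neg Lam : Equiv.Perm Lam) ∈ M) {s : Vec}
    (hs : IsRoot s) (hne : rf e1 root_e1 ≠ rf s hs) (h : rf e1 root_e1 * rf s hs ∈ M) :
    W ≤ M := by
  rcases shapes hs with h9 | ⟨a, b, ha, hb, e⟩ | ⟨a, b, ha, hb, e⟩ | ⟨a, b, ha, hb, e⟩ |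
    ⟨c, hc, e⟩ | ⟨c, hc, e⟩ | ⟨c, hc, e⟩
  · rcases h9 with ⟨h1, h2, h3⟩ | ⟨h1, h2, h3⟩ | ⟨h1, h2, h3⟩ | ⟨h1, h2, h3⟩ | ⟨h1, h2, h3⟩ |
      ⟨h1, h2, h3⟩ | ⟨h1, h2, h3⟩ | ⟨h1, h2, h3⟩ | ⟨h1, h2, h3⟩
    · exact claimC hM hneg hs (by rw [h1]; decide) h
    · exact claimE hM hneg hs h1 h
    · exact claimE hM hneg hs h1 h
    · exact claimE hM hneg hs h1 h
    · exact claimE hM hneg hs h1 h
    · exact claimF0 hM hneg hs h (Or.inl h2)
    · exact claimF0 hM hneg hs h (Or.inl h2)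
    · exact claimF0 hM hneg hs h (Or.inr h3)
    · exact claimF0 hM hneg hs h (Or.inr h3)
  · exact claimC hM hneg hs (by rw [e]; simp only [nrm_mul, ha, nrm_hh, one_mul]) h
  · exact claimC hM hneg hs (by rw [e]; simp only [nrm_mul, ha, nrm_hh, one_mul]) h
  · exact claimA hM hneg hs (by rw [e]) h
  · exact absurd (rf_e1_smul hc root_e1 hs e).symm hne
  · exact claimA hM hneg hs (by rw [e, smul_x]; simp only [e2, mul_zero]) h
  · exact claimA hM hneg hs (by rw [e, smul_x]; simp only [e3, mul_zero]) h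

/-- A subgroup normalised by `W` that contains −1 and the product of two different reflections
contains `W`. -/
theorem W_le_of (hM : Nrml M) (hneg : (Equiv.neg Lam : Equiv.Perm Lam) ∈ M) {r s : Vec}
    (hr : IsRoot r) (hs : IsRoot s) (hne : rf r hr ≠ rf s hs) (h : rf r hr * rf s hs ∈ M) :
    W ≤ M := by
  obtain ⟨_, g, u, hg, hu, e⟩ := (lk_all hr).symm hr
  have h1 := hM g hg _ h
  have h2 : g * (rf r hr * rf s hs) * g⁻¹ = (g * rf r hr * g⁻¹) * (g * rf s hs * g⁻¹) := by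
    group
  have h3 := conj_rf hg hr
  rw [rf_e1_smul hu root_e1 (W_isRoot hg hr) e] at h3
  rw [h2, h3, conj_rf hg hs] at h1
  refine claim_e1 hM hneg (W_isRoot hg hs) ?_ h1
  rw [← conj_rf hg hs, ← h3]
  intro h4
  exact hne (mul_left_cancel (mul_right_cancel h4))

/-- a root with `N(½ q·e1) = 1` -/
theorem not_comm_check : refl q13 (refl e1 (refl q13 e1)) ≠
    refl e1 (refl q13 (refl e1 (refl q13 (refl e1 e1)))) := by decide +kernel

/-- The two reflections do not commute modulo the centre. -/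
theorem not_comm_mod_center :
    ((⟨rf e1 root_e1, rf_mem root_e1⟩ : W) * ⟨rf q13 root_q13, rf_mem root_q13⟩)⁻¹ *
      (⟨rf q13 root_q13, rf_mem root_q13⟩ * ⟨rf e1 root_e1, rf_mem root_e1⟩) ∉
        Subgroup.center W := by
  intro h
  rw [mem_center_W] at h
  have h1 := h e1 root_e1
  have h2 : (((⟨rf e1 root_e1, rf_mem root_e1⟩ : W) * ⟨rf q13 root_q13, rf_mem root_q13⟩)⁻¹ *
      (⟨rf q13 root_q13, rf_mem root_q13⟩ * ⟨rf e1 root_e1, rf_mem root_e1⟩) : W).1 =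
      rf q13 root_q13 * rf e1 root_e1 * (rf q13 root_q13 * rf e1 root_e1) := by
    rw [mul_inv_rev]
    change (rf q13 root_q13)⁻¹ * (rf e1 root_e1)⁻¹ * (rf q13 root_q13 * rf e1 root_e1) = _
    rw [rf_inv, rf_inv]
  rw [h2] at h1
  have h3 : rf q13 root_q13 * (rf e1 root_e1 * rf q13 root_q13) =
      rf e1 root_e1 * (rf q13 root_q13 * (rf e1 root_e1 * (rf q13 root_q13 * rf e1 root_e1))) := by
    have h4 := rf_mul_self root_e1
    calc rf q13 root_q13 * (rf e1 root_e1 * rf q13 root_q13)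
        = rf q13 root_q13 * (rf e1 root_e1 * (rf q13 root_q13 * (rf e1 root_e1 * rf e1 root_e1))) := by
          rw [h4, mul_one]
      _ = _ := by
          simp only [mul_assoc] at h1
          exact h1
  have h5 := congrArg Subtype.val (congrFun (congrArg DFunLike.coe h3) (pt root_e1))
  simp only [Equiv.Perm.mul_apply, rf_apply, pt_val] at h5
  exact not_comm_check h5

theorem simple_quotient : IsSimpleGroup (W ⧸ Subgroup.center W) := by
  have _ : Nontrivial (W ⧸ Subgroup.center W) := by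
    refine ⟨⟨(((⟨rf e1 root_e1, rf_mem root_e1⟩ : W) * ⟨rf q13 root_q13, rf_mem root_q13⟩ : W) :
      W ⧸ Subgroup.center W), ((⟨rf q13 root_q13, rf_mem root_q13⟩ *
        ⟨rf e1 root_e1, rf_mem root_e1⟩ : W) : W ⧸ Subgroup.center W), ?_⟩⟩
    intro h
    exact not_comm_mod_center (QuotientGroup.eq.1 h)
  refine IsSimpleGroup.mk fun H hH => ?_
  by_cases hbot : H = ⊥
  · exact Or.inl hbot
  right
  set N : Subgroup W := H.comap (QuotientGroup.mk' (Subgroup.center W)) with hN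
  have hNn : N.Normal := hH.comap _
  have hcen : Subgroup.center W ≤ N := by
    intro z hz
    rw [hN, Subgroup.mem_comap, QuotientGroup.mk'_apply, (QuotientGroup.eq_one_iff z).2 hz]
    exact one_mem _
  obtain ⟨x, hxH, hx1⟩ : ∃ x, x ∈ H ∧ x ≠ 1 := by
    by_contra hcon
    push Not at hcon
    exact hbot ((Subgroup.eq_bot_iff_forall H).2 hcon)
  obtain ⟨n, rfl⟩ := QuotientGroup.mk_surjective x
  have hnN : n ∈ N := hxH
  have hnc : n ∉ Subgroup.center W := fun h => hx1 ((QuotientGroup.eq_one_iff n).2 h)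
  rw [mem_center_W] at hnc
  push Not at hnc
  obtain ⟨r, hr, hne⟩ := hnc
  have hM : Nrml (N.map W.subtype) := by
    rintro g hg _ ⟨m, hm, rfl⟩
    exact ⟨⟨g, hg⟩ * m * ⟨g, hg⟩⁻¹, hNn.conj_mem m hm ⟨g, hg⟩, rfl⟩
  have hneg : (Equiv.neg Lam : Equiv.Perm Lam) ∈ N.map W.subtype :=
    ⟨⟨Equiv.neg Lam, neg_mem_W⟩, hcen neg_mem_center, rfl⟩
  have hn : (n : Equiv.Perm Lam) ∈ N.map W.subtype := ⟨n, hnN, rfl⟩
  have hprod : rf _ (W_isRoot n.2 hr) * rf r hr ∈ N.map W.subtype := by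
    rw [← conj_rf n.2 hr, mul_assoc, mul_assoc]
    refine mul_mem hn ?_
    have h1 := hM _ (rf_mem hr) _ (inv_mem hn)
    rw [rf_inv, mul_assoc] at h1
    exact h1
  have hne' : rf _ (W_isRoot n.2 hr) ≠ rf r hr := by
    rw [← conj_rf n.2 hr]
    intro h
    exact hne (mul_inv_eq_iff_eq_mul.1 h)
  have hW := W_le_of hM hneg (W_isRoot n.2 hr) hr hne' hprod
  rw [eq_top_iff]
  intro y _
  obtain ⟨w, rfl⟩ := QuotientGroup.mk_surjective y
  obtain ⟨m, hm, e⟩ := hW w.2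
  have e' : m = w := Subtype.ext e
  rw [← e']
  exact hm

theorem not_comm_quotient : ∃ a b : W ⧸ Subgroup.center W, a * b ≠ b * a := by
  refine ⟨((⟨rf e1 root_e1, rf_mem root_e1⟩ : W) : W ⧸ Subgroup.center W),
    ((⟨rf q13 root_q13, rf_mem root_q13⟩ : W) : W ⧸ Subgroup.center W), ?_⟩
  intro h
  rw [← QuotientGroup.mk_mul, ← QuotientGroup.mk_mul] at h
  exact not_comm_mod_center (QuotientGroup.eq.1 h)

end Cfsg.Agent.J2.Simple
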