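import Cfsg.Prelude.Def_Classical
import Cfsg.Agent.LieClassical.GUOrder
import Cfsg.Agent.SporadicStructure.PsuMatch
import Cfsg.Agent.S0280
set_option linter.all false

-- part: J2/U33
section
/-!
# Four explicit involutions of `SU_3(3)` on the 63 non-isotropic points

`sig s` (`s : Fin 4`) are four explicit permutations of 63 points; they generate a group of order at least 6048 and are
induced (projectively) by elements `M s` of `SU 3 K9 3` on the 63 pairwise non-proportional vectors `vec i`.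
This is the `PSU_3(3)` half of the identification of the index 100 subgroup of J2 (S1624).
-/

set_option autoImplicit false

namespace Cfsg.Agent.J2.U33

open Matrix

/-- The field with nine elements, as `𝔽₃[i]`. -/
abbrev K9 := QuadraticAlgebra (ZMod 3) (-1) 0

instance k9FactInst : Fact (∀ r : ZMod 3, r ^ 2 ≠ -1 + 0 * r) := ⟨by decide⟩

noncomputable instance k9FintypeInst : Fintype K9 :=
  Fintype.ofEquiv _ (QuadraticAlgebra.equivProd (-1 : ZMod 3) 0).symm

theorem card_k9 : Fintype.card K9 = 9 := by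
  rw [Fintype.card_congr (QuadraticAlgebra.equivProd (-1 : ZMod 3) 0)]
  rfl

/-- The element of `K9` with code `a + 3 b` (for `a + b i`). -/
def el : ℕ → K9
  | 0 => ⟨0, 0⟩
  | 1 => ⟨1, 0⟩
  | 2 => ⟨2, 0⟩
  | 3 => ⟨0, 1⟩
  | 4 => ⟨1, 1⟩
  | 5 => ⟨2, 1⟩
  | 6 => ⟨0, 2⟩
  | 7 => ⟨1, 2⟩
  | _ => ⟨2, 2⟩

/-- Codes of the 63 vectors (first nonzero coordinate 1). -/
def ptsL : List (ℕ × ℕ × ℕ) :=
  [(0, 0, 1), (0, 1, 0), (0, 1, 1), (0, 1, 2), (0, 1, 3), (0, 1, 6), (1, 0, 0), (1, 0, 1), (1, 0, 2), (1, 0, 3), (1, 0, 6), (1, 1, 0), (1, 1, 4), (1, 1, 5), (1, 1, 7), (1, 1, 8), (1, 2, 0), (1, 2, 4), (1, 2, 5), (1, 2, 7), (1, 2, 8), (1, 3, 0), (1, 3, 4), (1, 3, 5), (1, 3, 7), (1, 3, 8), (1, 4, 1), (1, 4, 2), (1, 4, 3), (1, 4, 4), (1, 4, 5), (1, 4, 6), (1, 4, 7), (1, 4, 8), (1, 5, 1), (1, 5, 2), (1, 5, 3), (1, 5, 4), (1, 5, 5), (1, 5, 6), (1, 5, 7), (1, 5, 8), (1, 6, 0), (1, 6, 4), (1, 6, 5), (1, 6, 7), (1, 6, 8), (1, 7, 1), (1, 7, 2),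 (1, 7, 3), (1, 7, 4), (1, 7, 5), (1, 7, 6), (1, 7, 7), (1, 7, 8), (1, 8, 1), (1, 8, 2), (1, 8, 3), (1, 8, 4), (1, 8, 5), (1, 8, 6), (1, 8, 7), (1, 8, 8)]

/-- The vector with number `i`. -/
def vec (i : Fin 63) : Fin 3 → K9 :=
  ![el (ptsL.getD i.val (0, 0, 0)).1, el (ptsL.getD i.val (0, 0, 0)).2.1, el (ptsL.getD i.val (0, 0, 0)).2.2]

/-- Tables of the four permutations. -/
def tabL : List (List ℕ) :=
  [[1, 0, 3, 2, 4, 5, 6, 42, 21, 11, 16, 9, 49, 28, 57, 36, 10, 52, 31, 60, 39, 8, 48, 27, 56, 35, 44, 23, 13, 51, 30, 18, 59, 38, 46, 25, 15, 54, 33, 20, 62, 41, 7, 47, 26, 55, 34, 43, 22, 12, 50, 29, 17, 58, 37, 45, 24, 14, 53, 32, 19, 61, 40],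
   [42, 24, 36, 62, 27, 50, 23, 54, 26, 39, 58, 25, 34, 28, 53, 59, 22, 51, 35, 61, 31, 21, 16, 6, 1, 11, 8, 4, 13, 29, 60, 20, 40, 49, 12, 18, 2, 56, 47, 9, 32, 41, 0, 46, 44, 45, 43, 38, 57, 33, 5, 17, 52, 14, 7, 55, 37, 48, 10, 15, 30, 19, 3],
   [52, 9, 58, 24, 20, 30, 39, 31, 60, 1, 10, 59, 12, 40, 27, 16, 15, 32, 22, 34, 4, 45, 18, 62, 3, 35, 38, 14, 57, 42, 5, 7, 17, 33, 19, 25, 36, 56, 26, 6, 13, 43, 29, 41, 44, 21, 55, 50, 51, 49, 47, 48, 0, 54, 53, 46, 37, 28, 2, 11, 8, 61, 23],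
   [11, 20, 51, 55, 32, 36, 17, 56, 53, 39, 30, 0, 12, 14, 13, 15, 16, 6, 21, 42, 1, 18, 34, 50, 60, 33, 38, 27, 47, 45, 10, 58, 4, 25, 22, 44, 5, 48, 26, 9, 40, 62, 19, 57, 35, 29, 54, 28, 37, 61, 23, 2, 52, 8, 46, 3, 7, 43, 31, 59, 24, 49, 41]]

/-- Tables of the scalars. -/
def cofL : List (List ℕ) :=
  [[3, 6, 3, 6, 2, 1, 2, 2, 2, 2, 2, 2, 2, 2, 2, 2, 2, 2, 2, 2, 2, 2, 2, 2, 2, 2, 2, 2, 2, 2, 2, 2, 2, 2, 2, 2, 2, 2, 2, 2, 2, 2, 2, 2, 2, 2, 2, 2, 2, 2, 2, 2, 2, 2, 2, 2, 2, 2, 2, 2, 2, 2, 2],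
   [8, 6, 5, 1, 4, 2, 1, 6, 5, 8, 3, 7, 1, 6, 8, 4, 4, 7, 3, 5, 1, 2, 5, 1, 3, 8, 4, 5, 3, 2, 7, 1, 6, 5, 1, 6, 4, 8, 4, 7, 3, 2, 7, 3, 2, 1, 6, 5, 1, 4, 2, 8, 2, 7, 3, 2, 7, 1, 6, 5, 8, 4, 1],
   [3, 8, 2, 5, 7, 6, 1, 4, 7, 7, 2, 6, 2, 5, 1, 4, 5, 7, 1, 6, 8, 8, 1, 4, 4, 3, 7, 1, 3, 6, 3, 5, 8, 2, 3, 6, 2, 5, 8, 1, 4, 7, 3, 8, 2, 7, 1, 5, 8, 1, 4, 7, 6, 3, 6, 1, 4, 6, 2, 3, 8, 2, 5],
   [7, 2, 6, 4, 3, 7, 1, 8, 3, 5, 6, 8, 2, 6, 3, 1, 2, 1, 8, 5, 2, 7, 6, 4, 1, 8, 4, 2, 1, 8, 3, 5, 6, 7, 3, 1, 8, 7, 5, 4, 2, 6, 4, 3, 1, 7, 5, 1, 8, 7, 5, 3, 2, 6, 4, 5, 7, 6, 4, 2, 1, 8, 3]]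

/-- Codes of the matrices. -/
def matL : List (List ℕ) :=
  [[2, 0, 0, 0, 0, 3, 0, 6, 0],
   [1, 6, 8, 3, 1, 5, 5, 8, 0],
   [1, 8, 3, 5, 0, 4, 6, 7, 1],
   [1, 2, 7, 2, 1, 7, 4, 4, 0]]

/-- Table entry. -/
def tab (s : Fin 4) (i : Fin 63) : Fin 63 := Fin.ofNat 63 ((tabL.getD s.val []).getD i.val 0)

theorem tab_tab : ∀ s i, tab s (tab s i) = i := by decide +kernel

/-- The four permutations (involutions) of the 63 points. -/
def sig (s : Fin 4) : Equiv.Perm (Fin 63) := ⟨tab s, tab s, tab_tab s, tab_tab s⟩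

theorem sig_apply (s : Fin 4) (i : Fin 63) : sig s i = tab s i := rfl

/-- The scalars. -/
def cof (s : Fin 4) (i : Fin 63) : K9 := el ((cofL.getD s.val []).getD i.val 0)

/-- The matrices. -/
def mat (s : Fin 4) : Matrix (Fin 3) (Fin 3) K9 :=
  Matrix.of fun i j => el ((matL.getD s.val []).getD (3 * i.val + j.val) 0)

theorem el_ne_zero : ∀ n, n ≠ 0 → el n ≠ 0 := by
  intro n hn h
  have h' := congrArg (fun x : K9 => (x.re, x.im)) h
  match n, hn, h' with
  | 1, _, h' => exact absurd h' (by decide)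
  | 2, _, h' => exact absurd h' (by decide)
  | 3, _, h' => exact absurd h' (by decide)
  | 4, _, h' => exact absurd h' (by decide)
  | 5, _, h' => exact absurd h' (by decide)
  | 6, _, h' => exact absurd h' (by decide)
  | 7, _, h' => exact absurd h' (by decide)
  | (n + 8), _, h' => exact absurd h' (by change ¬ ((2 : ZMod 3), (2 : ZMod 3)) = (0, 0); decide)

theorem cof_ne_zero (s : Fin 4) (i : Fin 63) : cof s i ≠ 0 := by
  apply el_ne_zero
  revert s i
  decide +kernel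

theorem mat_vec_entry : ∀ (s : Fin 4) (i : Fin 63) (k : Fin 3),
    mat s k 0 * vec i 0 + mat s k 1 * vec i 1 + mat s k 2 * vec i 2
      = cof s i * vec (tab s i) k := by
  decide +kernel

theorem mat_vec (s : Fin 4) (i : Fin 63) : mat s *ᵥ vec i = cof s i • vec (sig s i) := by
  funext k
  simp only [Matrix.mulVec, dotProduct, Fin.sum_univ_three, Pi.smul_apply, smul_eq_mul]
  rw [mat_vec_entry]
  rfl

theorem mat_det : ∀ s : Fin 4, mat s 0 0 * mat s 1 1 * mat s 2 2 - mat s 0 0 * mat s 1 2 * mat s 2 1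
    - mat s 0 1 * mat s 1 0 * mat s 2 2 + mat s 0 1 * mat s 1 2 * mat s 2 0
    + mat s 0 2 * mat s 1 0 * mat s 2 1 - mat s 0 2 * mat s 1 1 * mat s 2 0 = 1 := by
  decide +kernel

theorem det_mat (s : Fin 4) : (mat s).det = 1 := by
  rw [Matrix.det_fin_three]
  exact mat_det s

theorem mat_unitary_entry : ∀ (s : Fin 4) (i j : Fin 3),
    mat s 0 i * (mat s 0 j * mat s 0 j * mat s 0 j) + mat s 1 i * (mat s 1 j * mat s 1 j * mat s 1 j)
      + mat s 2 i * (mat s 2 j * mat s 2 j * mat s 2 j) = if i = j then 1 else 0 := by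
  decide +kernel

theorem card_k9' : Fintype.card K9 = 3 ^ 2 := card_k9

theorem mat_unitary (s : Fin 4) :
    (mat s)ᵀ * (mat s).map (LieClassical.GUOrder.frob card_k9') = 1 := by
  refine Matrix.ext fun i j => ?_
  rw [Matrix.mul_apply, Fin.sum_univ_three, Matrix.one_apply, ← mat_unitary_entry s i j]
  simp only [Matrix.transpose_apply, Matrix.map_apply, LieClassical.GUOrder.frob_apply, pow_succ,
    pow_zero, one_mul]

/-- The four elements of `SU_3(3)`. -/
def su (s : Fin 4) : Cfsg.SU 3 K9 3 :=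
  ⟨⟨mat s, det_mat s⟩, (LieClassical.GUOrder.mul_map_eq_one_iff card_k9' (mat s)).2 (mat_unitary s)⟩

theorem su_mulVec (s : Fin 4) (i : Fin 63) : ∃ c : K9, c ≠ 0 ∧
    ((su s : Matrix.SpecialLinearGroup (Fin 3) K9) : Matrix (Fin 3) (Fin 3) K9) *ᵥ vec i
      = c • vec (sig s i) :=
  ⟨cof s i, cof_ne_zero s i, mat_vec s i⟩

theorem vec_shape : ∀ i : Fin 63, vec i 0 = 1 ∨ (vec i 0 = 0 ∧ (vec i 1 = 1 ∨
    (vec i 1 = 0 ∧ vec i 2 = 1))) := by
  decide +kernel

theorem vec_inj : ∀ i j : Fin 63, vec i 0 = vec j 0 → vec i 1 = vec j 1 → vec i 2 = vec j 2 →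
    i = j := by
  decide +kernel

theorem vec_nonprop (i j : Fin 63) (c : K9) (hc : c ≠ 0) (h : vec i = c • vec j) : i = j := by
  have h0 : vec i 0 = c * vec j 0 := congrFun h 0
  have h1 : vec i 1 = c * vec j 1 := congrFun h 1
  have h2 : vec i 2 = c * vec j 2 := congrFun h 2
  have hc1 : c = 1 := by
    rcases vec_shape i with hi | ⟨hi0, hi | ⟨hi1, hi⟩⟩
    · rcases vec_shape j with hj | ⟨hj0, -⟩
      · rw [hi, hj, mul_one] at h0; exact h0.symm
      · rw [hi, hj0, mul_zero] at h0; exact absurd h0 one_ne_zero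
    · rcases vec_shape j with hj | ⟨hj0, hj | ⟨hj1, -⟩⟩
      · rw [hi0, hj, mul_one] at h0; exact absurd h0.symm hc
      · rw [hi, hj, mul_one] at h1; exact h1.symm
      · rw [hi, hj1, mul_zero] at h1; exact absurd h1 one_ne_zero
    · rcases vec_shape j with hj | ⟨hj0, hj | ⟨hj1, hj⟩⟩
      · rw [hi0, hj, mul_one] at h0; exact absurd h0.symm hc
      · rw [hi1, hj, mul_one] at h1; exact absurd h1.symm hc
      · rw [hi, hj, mul_one] at h2; exact h2.symm
  subst hc1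
  rw [one_mul] at h0 h1 h2
  exact vec_inj i j h0 h1 h2

/-- Words for transitivity: `(word1 k) 0 = k`. -/
def w1L : List (List (Fin 4)) :=
  [[], [0], [0,2,1,0], [2,1,0], [2,3,0], [2,1,3,1,0], [3,0,2], [0,1], [2,3,1,0], [2,0], [3,1,3,1,0], [3], [1,2,3,1], [2,1,2,0,2], [2,1,2,3,0], [1,2,3], [2,1,2,3], [0,2], [0,1,3,0], [3,1], [3,0], [2,3,2,1], [3,2,3,1], [1,3,0,2], [1,0], [1,3], [1,2,3,1,0], [1,2,3,0], [2,1,2,0,2,1], [2,1], [1,3,1,0], [1,3,0], [2,0,2], [3,1,3], [2,3,1], [0,1,3], [0,1,2,3], [1,0,1,0], [0,3,1,3], [1,2,0], [1,2,0,2], [3,1,2,1,0], [1], [1,3,1,0,1], [3,0,1,3], [3,2,1], [3,1,0,1], [1,0,3,1,3], [2,0,2,1], [3,1,3,1], [3,1,3,0,2], [0,2,1], [2], [2,1,0,1], [1,0,1], [3,2,1,0], [0,1,0], [1,2,0,2,1], [3,1,3,0], [2,3], [3,1,0], [1,3,1], [1,2,1,0]]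
/-- Words fixing `0`, moving `26` to 32 different points. -/
def w2L : List (List (Fin 4)) :=
  [[], [2,1,2], [2,3,2], [2,3,1,2], [2,1,3,2], [2,1,3,1,2], [2,3,1,3,2], [1,0,3,0,1,0], [0,3,0,1,2,0], [0,2,3,1,2,0], [3,0,1,3,2,0], [0,2,1,3,2,0], [3,0,1,0,3,0], [0,2,1,0,3,0], [0,3,1,2,0,1], [2,0,1,0,2,1], [1,2,0,1,0,2], [2,3,1,3,1,2], [3,1,2,0,1,3], [3,1,0,2,1,3], [1,3,1,0,1,3,1], [1,2,0,1,0,3,2], [1,0,3,2,1,0,1,0], [1,0,3,1,2,0,1,0], [2,0,1,3,0,2,1,0], [3,1,2,0,1,0,2,0], [2,1,0,3,2,1,2,0], [0,3,0,1,3,1,2,0], [0,2,3,1,3,1,2,0], [0,1,0,2,1,3,0,1], [1,2,1,0,1,0,3,2], [1,2,3,1,0,3,2,1,0]]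
/-- Words fixing `0` and `26`. -/
def w3L : List (List (Fin 4)) :=
  [[], [3,0,1,2,3,1,0,2,1], [1,2,0,1,3,2,1,0,3]]

/-- The product of a word. -/
def wp (w : List (Fin 4)) : Equiv.Perm (Fin 63) := (w.map sig).prod

/-- Image of a point under a word, computed from right to left. -/
def ev (w : List (Fin 4)) (x : Fin 63) : Fin 63 := w.foldr tab x

theorem wp_apply (w : List (Fin 4)) (x : Fin 63) : wp w x = ev w x := by
  induction w with
  | nil => rfl
  | cons s w ih =>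
    change (wp (s :: w)) x = tab s (ev w x)
    rw [← ih]
    simp [wp, sig_apply]

theorem wp_mem (w : List (Fin 4)) : wp w ∈ Subgroup.closure (Set.range sig) := by
  apply Subgroup.list_prod_mem
  intro x hx
  obtain ⟨s, -, rfl⟩ := List.mem_map.1 hx
  exact Subgroup.subset_closure ⟨s, rfl⟩

/-- Words indexed by `Fin`. -/
def W1 (k : Fin 63) : List (Fin 4) := w1L.getD k.val []
def W2 (k : Fin 32) : List (Fin 4) := w2L.getD k.val []
def W3 (k : Fin 3) : List (Fin 4) := w3L.getD k.val []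

theorem W1_zero : ∀ k, ev (W1 k) 0 = k := by decide +kernel
theorem W2_zero : ∀ k, ev (W2 k) 0 = 0 := by decide +kernel
theorem W3_zero : ∀ k, ev (W3 k) 0 = 0 := by decide +kernel
theorem W2_inj : ∀ k l, ev (W2 k) 26 = ev (W2 l) 26 → k = l := by decide +kernel
theorem W3_b1 : ∀ k, ev (W3 k) 26 = 26 := by decide +kernel
theorem W3_inj : ∀ k l, ev (W3 k) 1 = ev (W3 l) 1 → k = l := by decide +kernel

/-- The group generated by the four permutations has order at least `6048`. -/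
theorem card_closure_sig : 6048 ≤ Nat.card (Subgroup.closure (Set.range sig)) := by
  let f : Fin 63 × Fin 32 × Fin 3 → Subgroup.closure (Set.range sig) := fun x =>
    ⟨wp (W1 x.1) * wp (W2 x.2.1) * wp (W3 x.2.2),
      mul_mem (mul_mem (wp_mem _) (wp_mem _)) (wp_mem _)⟩
  have hf : Function.Injective f := by
    rintro ⟨a, b, c⟩ ⟨a', b', c'⟩ h
    have h1 : wp (W1 a) * wp (W2 b) * wp (W3 c) = wp (W1 a') * wp (W2 b') * wp (W3 c') :=
      congrArg Subtype.val h
    have e0 := congrArg (fun p : Equiv.Perm (Fin 63) => p 0) h1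
    simp only [Equiv.Perm.mul_apply, wp_apply, W3_zero, W2_zero, W1_zero] at e0
    subst e0
    rw [mul_assoc, mul_assoc, mul_right_inj] at h1
    have e1 := congrArg (fun p : Equiv.Perm (Fin 63) => p 26) h1
    simp only [Equiv.Perm.mul_apply, wp_apply, W3_b1] at e1
    have e1' := W2_inj _ _ e1
    subst e1'
    rw [mul_right_inj] at h1
    have e2 := congrArg (fun p : Equiv.Perm (Fin 63) => p 1) h1
    simp only [wp_apply] at e2
    have e2' := W3_inj _ _ e2
    subst e2'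
    rfl
  have h := Nat.card_le_card_of_injective f hf
  simpa using h

end Cfsg.Agent.J2.U33
end

-- part: J2/HundredAbs
section
/-!
# The index 100 subgroup: the part of S1624 that does not depend on the icosian model

From a group `J` of order `604800` acting on a set `V`, five generators `g j`, one hundred subsets `B a` of `V`
permuted by them through tables, the first four fixing `B 0`, and 63 points of `V` on which the first four act as
`U33.sig`, we obtain the subgroup of index 100 isomorphic to `PSU_3(3)` with subdegrees 36 and 63.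
-/

set_option autoImplicit false

namespace Cfsg.Agent.J2.HundredAbs

open scoped Pointwise

/-- The orbit of `B a₁` under the group generated by the `k j`, from tables. -/
theorem orbit_eq {J V ι : Type*} [Group J] [MulAction J V] {N m : ℕ} (k : ι → J)
    (B : Fin N → Set V) (s : ι → Fin N → Fin N) (hk : ∀ j a, k j • B a = B (s j a))
    (e : Fin m → Fin N) (hB : Function.Injective B) (he : Function.Injective e) (a₁ : Fin N)
    (w : Fin m → List ι) (hw : ∀ i, (w i).foldr s a₁ = e i)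
    (hcl : ∀ j i, ∃ i', s j (e i) = e i') (h₁ : ∃ i, e i = a₁) :
    {X : Set V | ∃ x ∈ Subgroup.closure (Set.range k), x • B a₁ = X} = Set.range (B ∘ e) := by
  classical
  have key : ∀ x ∈ Subgroup.closure (Set.range k), ∀ i, ∃ i', x • B (e i) = B (e i') := by
    intro x hx
    induction hx using Subgroup.closure_induction with
    | mem x hx =>
      obtain ⟨j, rfl⟩ := hx
      intro i
      obtain ⟨i', hi'⟩ := hcl j i
      exact ⟨i', by rw [hk, hi']⟩
    | one => intro i; exact ⟨i, one_smul _ _⟩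
    | mul x y _ _ hx hy =>
      intro i
      obtain ⟨i', h1⟩ := hy i
      obtain ⟨i'', h2⟩ := hx i'
      exact ⟨i'', by rw [mul_smul, h1, h2]⟩
    | inv x _ hx =>
      choose f hf using hx
      have hinj : Function.Injective f := by
        intro i i' h
        have h1 : x • B (e i) = x • B (e i') := by rw [hf, hf, h]
        exact he (hB (smul_left_cancel x h1))
      intro i
      obtain ⟨i', rfl⟩ := (Finite.injective_iff_surjective.1 hinj) i
      exact ⟨i', by rw [← hf, inv_smul_smul]⟩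
  apply Set.Subset.antisymm
  · rintro X ⟨x, hx, rfl⟩
    obtain ⟨i, rfl⟩ := h₁
    obtain ⟨i', hi'⟩ := key x hx i
    exact ⟨i', hi'.symm⟩
  · rintro X ⟨i, rfl⟩
    refine ⟨((w i).map k).prod, ?_, ?_⟩
    · apply Subgroup.list_prod_mem
      intro x hx
      obtain ⟨j, -, rfl⟩ := List.mem_map.1 hx
      exact Subgroup.subset_closure ⟨j, rfl⟩
    · have : ∀ l : List ι, (l.map k).prod • B a₁ = B (l.foldr s a₁) := by
        intro l
        induction l with
        | nil => simp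
        | cons j l ih =>
          rw [List.map_cons, List.prod_cons, mul_smul, ih, hk, List.foldr_cons]
      rw [this, hw]
      rfl

theorem card_psu_three : Nat.card (Cfsg.PSU 3 U33.K9 3) = 6048 := by
  have h := Cfsg.Agent.S0280.result (F := U33.K9) (q := 3) U33.card_k9 3 (by norm_num)
  norm_num [Finset.prod_range_succ, Nat.even_iff] at h
  omega

/-- A group whose elements `k s` induce the four permutations `U33.sig s` on some 63 points has at least 6048
elements. -/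
theorem card_ge {J V : Type*} [Group J] [Finite J] [MulAction J V] (k : Fin 4 → J)
    (P : Fin 63 → V) (hP : Function.Injective P) (h : ∀ s i, k s • P i = P (U33.sig s i)) :
    6048 ≤ Nat.card (Subgroup.closure (Set.range k)) := by
  classical
  refine U33.card_closure_sig.trans ?_
  have key : ∀ τ ∈ Subgroup.closure (Set.range U33.sig), ∃ x ∈ Subgroup.closure (Set.range k),
      ∀ i, x • P i = P (τ i) := by
    intro τ hτ
    induction hτ using Subgroup.closure_induction with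
    | mem τ hτ =>
      obtain ⟨s, rfl⟩ := hτ
      exact ⟨k s, Subgroup.subset_closure ⟨s, rfl⟩, h s⟩
    | one => exact ⟨1, one_mem _, fun i => one_smul _ _⟩
    | mul τ υ _ _ h1 h2 =>
      obtain ⟨x, hx, h1⟩ := h1
      obtain ⟨y, hy, h2⟩ := h2
      exact ⟨x * y, mul_mem hx hy, fun i => by
        rw [mul_smul, h2, h1]; rfl⟩
    | inv τ _ h1 =>
      obtain ⟨x, hx, h1⟩ := h1
      refine ⟨x⁻¹, inv_mem hx, fun i => ?_⟩
      rw [inv_smul_eq_iff, h1]
      congr 1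
      exact (Equiv.apply_symm_apply τ i).symm
  choose! f hf using key
  let F : Subgroup.closure (Set.range U33.sig) → Subgroup.closure (Set.range k) :=
    fun τ => ⟨f τ, (hf τ τ.2).1⟩
  apply Nat.card_le_card_of_injective F
  rintro ⟨τ, hτ⟩ ⟨υ, hυ⟩ hF
  have h1 : f τ = f υ := congrArg Subtype.val hF
  apply Subtype.ext
  apply Equiv.ext
  intro i
  apply hP
  rw [← (hf τ hτ).2 i, ← (hf υ hυ).2 i, h1]

theorem main_abs {J : Type} [Group J] [Finite J] (hcard : Nat.card J = 604800)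
    {V : Type} [MulAction J V] (g : Fin 5 → J) (hg : Subgroup.closure (Set.range g) = ⊤)
    (B : Fin 100 → Set V) (hB : Function.Injective B) (s : Fin 5 → Fin 100 → Fin 100)
    (hs : ∀ j a, g j • B a = B (s j a))
    (hs0 : ∀ j : Fin 4, s j.castSucc 0 = 0)
    (P : Fin 63 → V) (hP : Function.Injective P)
    (h : ∀ (j : Fin 4) i, g j.castSucc • P i = P (U33.sig j i))
    (w : Fin 100 → List (Fin 5)) (hw : ∀ a, (w a).foldr s 0 = a)
    (e1 : Fin 36 → Fin 100) (he1 : Function.Injective e1)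
    (w1 : Fin 36 → List (Fin 4))
    (hw1 : ∀ i, (w1 i).foldr (fun j : Fin 4 => s j.castSucc) (e1 0) = e1 i)
    (hcl1 : ∀ (j : Fin 4) i, ∃ i', s j.castSucc (e1 i) = e1 i')
    (e2 : Fin 63 → Fin 100) (he2 : Function.Injective e2)
    (w2 : Fin 63 → List (Fin 4))
    (hw2 : ∀ i, (w2 i).foldr (fun j : Fin 4 => s j.castSucc) (e2 0) = e2 i)
    (hcl2 : ∀ (j : Fin 4) i, ∃ i', s j.castSucc (e2 i) = e2 i') :
    ∃ H : Subgroup J, H.index = 100 ∧
      (∃ (F : Type) (_ : Field F) (_ : Fintype F), Fintype.card F = 9 ∧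
        Nonempty (↥H ≃* Cfsg.PSU 3 F 3)) ∧
      ∃ c₁ c₂ : J ⧸ H, (MulAction.orbit ↥H c₁).ncard = 36 ∧
        (MulAction.orbit ↥H c₂).ncard = 63 := by
  classical
  let H : Subgroup J := MulAction.stabilizer J (B 0)
  -- the orbit of `B 0`
  have horb : MulAction.orbit J (B 0) = Set.range B := by
    have h0 := orbit_eq g B s hs id hB Function.injective_id 0 w hw (fun j i => ⟨_, rfl⟩)
      ⟨0, rfl⟩
    rw [hg] at h0
    ext X
    rw [MulAction.mem_orbit_iff]
    have h1 : X ∈ {X : Set V | ∃ x ∈ (⊤ : Subgroup J), x • B 0 = X} ↔ X ∈ Set.range (B ∘ id) := by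
      rw [h0]
    simpa using h1
  have hidx : H.index = 100 := by
    rw [MulAction.index_stabilizer, horb, Set.ncard_range_of_injective hB]
    simp
  have hcardH : Nat.card H = 6048 := by
    have h1 := H.card_mul_index
    rw [hidx, hcard] at h1
    omega
  -- generators of `H`
  let k : Fin 4 → J := fun j => g j.castSucc
  have hkH : ∀ j, k j ∈ H := by
    intro j
    rw [MulAction.mem_stabilizer_iff, hs, hs0]
  have hle : Subgroup.closure (Set.range k) ≤ H := by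
    rw [Subgroup.closure_le]
    rintro _ ⟨j, rfl⟩
    exact hkH j
  have hHk : Subgroup.closure (Set.range k) = H := by
    apply Subgroup.eq_of_le_of_card_ge hle
    rw [hcardH]
    exact card_ge k P hP h
  refine ⟨H, hidx, ⟨U33.K9, inferInstance, inferInstance, U33.card_k9, ?_⟩, ?_⟩
  · exact SporadicStructure.PsuMatch.iso_psu_of_match (G := H) (V := V) (K := U33.K9)
      (X := Fin 63) (ι := Fin 4) (n := 3) (q := 3) U33.card_k9 le_rfl P hP U33.vec
      (fun i j c hc h => U33.vec_nonprop i j c hc h) (fun j => ⟨k j, hkH j⟩) U33.su U33.sig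
      (fun j i => h j i) (fun j i => U33.su_mulVec j i)
      (by rw [hcardH]; exact U33.card_closure_sig)
      (by rw [card_psu_three]; exact U33.card_closure_sig)
  · -- the orbits on the cosets
    have hι : ∀ (x : J) (m : ℕ) (e : Fin m → Fin 100) (i₀ : Fin m), Function.Injective e →
        x • B 0 = B (e i₀) →
        {X : Set V | ∃ y ∈ Subgroup.closure (Set.range k), y • B (e i₀) = X} =
          Set.range (B ∘ e) →
        (MulAction.orbit ↥H ((x : J) : J ⧸ H)).ncard = m := by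
      intro x m e i₀ he hx hX
      have hinj := MulAction.injective_ofQuotientStabilizer J (B 0)
      rw [← Set.ncard_image_of_injective _ hinj]
      have himg : MulAction.ofQuotientStabilizer J (B 0) '' (MulAction.orbit ↥H ((x : J) : J ⧸ H))
          = Set.range (B ∘ e) := by
        rw [← hX, hHk]
        ext X
        constructor
        · rintro ⟨_, ⟨y, rfl⟩, rfl⟩
          refine ⟨y, y.2, ?_⟩
          rw [← hx]
          exact (mul_smul _ _ _).symm
        · rintro ⟨y, hy, rfl⟩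
          refine ⟨(⟨y, hy⟩ : H) • ((x : J) : J ⧸ H), ⟨⟨y, hy⟩, rfl⟩, ?_⟩
          rw [← hx]
          exact mul_smul _ _ _
      rw [himg, Set.ncard_range_of_injective (hB.comp he)]
      simp
    have hreach : ∀ a : Fin 100, ∃ x : J, x • B 0 = B a := by
      intro a
      have h1 : B a ∈ MulAction.orbit J (B 0) := by rw [horb]; exact ⟨a, rfl⟩
      exact h1
    obtain ⟨x1, hx1⟩ := hreach (e1 0)
    obtain ⟨x2, hx2⟩ := hreach (e2 0)
    exact ⟨(x1 : J ⧸ H), (x2 : J ⧸ H),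
      hι x1 36 e1 0 he1 hx1 (orbit_eq k B (fun j => s j.castSucc) (fun j a => hs _ _) e1 hB he1
        (e1 0) w1 hw1 hcl1 ⟨0, rfl⟩),
      hι x2 63 e2 0 he2 hx2 (orbit_eq k B (fun j => s j.castSucc) (fun j a => hs _ _) e2 hB he2
        (e2 0) w2 hw2 hcl2 ⟨0, rfl⟩)⟩

end Cfsg.Agent.J2.HundredAbs
end
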