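import Mathlib
import Cfsg.Prelude.Def_Spor_J2
set_option linter.all false

-- part: J2/ZTau
section
/-!
# The ring `ℤ[τ]` in integer coordinates

`Zt` = pairs `⟨a, b⟩` standing for `a + b τ`, with the two real embeddings `toR` (τ ↦ τ) and
`toR'` (τ ↦ σ).
-/

set_option autoImplicit false

namespace Cfsg.Agent.J2.ZTau

open Cfsg.Spor

/-- Elements `a + b τ` of `ℤ[τ]`. -/
@[ext] structure Zt where
  /-- rational part -/
  a : ℤ
  /-- coefficient of τ -/
  b : ℤ

/-- decidable equality on `Zt` -/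
instance decEqZt : DecidableEq Zt := fun x y =>
  if h : x.a = y.a ∧ x.b = y.b then isTrue (Zt.ext h.1 h.2)
  else isFalse (fun e => h ⟨congrArg Zt.a e, congrArg Zt.b e⟩)

/-- zero -/
instance zeroZt : Zero Zt := ⟨⟨0, 0⟩⟩
/-- one -/
instance oneZt : One Zt := ⟨⟨1, 0⟩⟩
/-- addition -/
instance addZt : Add Zt := ⟨fun x y => ⟨x.a + y.a, x.b + y.b⟩⟩
/-- negation -/
instance negZt : Neg Zt := ⟨fun x => ⟨-x.a, -x.b⟩⟩
/-- subtraction -/
instance subZt : Sub Zt := ⟨fun x y => ⟨x.a - y.a, x.b - y.b⟩⟩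
/-- multiplication, with τ² = τ + 1 -/
instance mulZt : Mul Zt := ⟨fun x y => ⟨x.a * y.a + x.b * y.b, x.a * y.b + x.b * y.a + x.b * y.b⟩⟩

@[simp] theorem zero_a : (0 : Zt).a = 0 := rfl
@[simp] theorem zero_b : (0 : Zt).b = 0 := rfl
@[simp] theorem one_a : (1 : Zt).a = 1 := rfl
@[simp] theorem one_b : (1 : Zt).b = 0 := rfl
@[simp] theorem add_a (x y : Zt) : (x + y).a = x.a + y.a := rfl
@[simp] theorem add_b (x y : Zt) : (x + y).b = x.b + y.b := rfl
@[simp] theorem neg_a (x : Zt) : (-x).a = -x.a := rfl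
@[simp] theorem neg_b (x : Zt) : (-x).b = -x.b := rfl
@[simp] theorem sub_a (x y : Zt) : (x - y).a = x.a - y.a := rfl
@[simp] theorem sub_b (x y : Zt) : (x - y).b = x.b - y.b := rfl
@[simp] theorem mul_a (x y : Zt) : (x * y).a = x.a * y.a + x.b * y.b := rfl
@[simp] theorem mul_b (x y : Zt) : (x * y).b = x.a * y.b + x.b * y.a + x.b * y.b := rfl

/-- `ℤ[τ]` is a commutative ring. -/
instance commRingZt : CommRing Zt where
  add_assoc x y z := by ext <;> simp [add_assoc]
  zero_add x := by ext <;> simp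
  add_zero x := by ext <;> simp
  add_comm x y := by ext <;> simp [add_comm]
  neg_add_cancel x := by ext <;> simp
  sub_eq_add_neg x y := by ext <;> simp [sub_eq_add_neg]
  mul_assoc x y z := by ext <;> simp <;> ring
  one_mul x := by ext <;> simp
  mul_one x := by ext <;> simp
  left_distrib x y z := by ext <;> simp <;> ring
  right_distrib x y z := by ext <;> simp <;> ring
  zero_mul x := by ext <;> simp
  mul_zero x := by ext <;> simp
  mul_comm x y := by ext <;> simp <;> ring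
  nsmul := nsmulRec
  zsmul := zsmulRec

@[simp] theorem natCast_a (n : ℕ) : (n : Zt).a = n := by
  induction n with
  | zero => simp
  | succ n ih => rw [Nat.cast_succ]; simp [ih]

@[simp] theorem natCast_b (n : ℕ) : (n : Zt).b = 0 := by
  induction n with
  | zero => simp
  | succ n ih => rw [Nat.cast_succ]; simp [ih]

@[simp] theorem intCast_a (n : ℤ) : (n : Zt).a = n := by
  cases n with
  | ofNat n => simp
  | negSucc n => rw [Int.cast_negSucc]; simp [Int.negSucc_eq]

@[simp] theorem intCast_b (n : ℤ) : (n : Zt).b = 0 := by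
  cases n with
  | ofNat n => simp
  | negSucc n => rw [Int.cast_negSucc]; simp

@[simp] theorem ofNat_a (n : ℕ) [n.AtLeastTwo] : (OfNat.ofNat n : Zt).a = OfNat.ofNat n := by
  rw [← Nat.cast_ofNat (R := Zt), natCast_a, Nat.cast_ofNat]

@[simp] theorem ofNat_b (n : ℕ) [n.AtLeastTwo] : (OfNat.ofNat n : Zt).b = 0 := by
  rw [← Nat.cast_ofNat (R := Zt), natCast_b]

/-- τ as an element of `Zt` -/
def T : Zt := ⟨0, 1⟩
/-- σ = 1 - τ as an element of `Zt` -/
def S : Zt := ⟨1, -1⟩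

@[simp] theorem T_a : T.a = 0 := rfl
@[simp] theorem T_b : T.b = 1 := rfl
@[simp] theorem S_a : S.a = 1 := rfl
@[simp] theorem S_b : S.b = -1 := rfl

theorem T_sq : T * T = T + 1 := rfl
theorem S_sq : S * S = S + 1 := rfl
theorem T_add_S : T + S = 1 := rfl
theorem T_mul_S : T * S = -1 := rfl
theorem S_mul_T : S * T = -1 := rfl
theorem S_eq : S = 1 - T := rfl

theorem sqrt5_sq : Real.sqrt 5 * Real.sqrt 5 = 5 := Real.mul_self_sqrt (by norm_num)

theorem tau_sq : tau * tau = tau + 1 := by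
  unfold tau; nlinarith [sqrt5_sq]

theorem sig_sq : sig * sig = sig + 1 := by
  unfold sig; nlinarith [sqrt5_sq]

theorem sig_eq : sig = 1 - tau := by
  unfold sig tau; ring

theorem tau_mul_sig : tau * sig = -1 := by
  rw [sig_eq]; linarith [tau_sq]

theorem sqrt5_eq : Real.sqrt 5 = 2 * tau - 1 := by
  unfold tau; ring

/-- The embedding of `ℤ[τ]` in `ℝ` with τ ↦ τ. -/
noncomputable def toR : Zt →+* ℝ where
  toFun x := x.a + x.b * tau
  map_one' := by simp
  map_zero' := by simp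
  map_add' x y := by simp; ring
  map_mul' x y := by
    simp only [mul_a, mul_b]; push_cast
    linear_combination (-(x.b : ℝ) * y.b) * tau_sq

/-- The embedding of `ℤ[τ]` in `ℝ` with τ ↦ σ. -/
noncomputable def toR' : Zt →+* ℝ where
  toFun x := x.a + x.b * sig
  map_one' := by simp
  map_zero' := by simp
  map_add' x y := by simp; ring
  map_mul' x y := by
    simp only [mul_a, mul_b]; push_cast
    linear_combination (-(x.b : ℝ) * y.b) * sig_sq

theorem toR_apply (x : Zt) : toR x = x.a + x.b * tau := rfl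
theorem toR'_apply (x : Zt) : toR' x = x.a + x.b * sig := rfl

@[simp] theorem toR_T : toR T = tau := by simp [toR_apply]
@[simp] theorem toR_S : toR S = sig := by simp [toR_apply, sig_eq]; ring
@[simp] theorem toR'_T : toR' T = sig := by simp [toR'_apply]
@[simp] theorem toR'_S : toR' S = tau := by simp [toR'_apply, sig_eq]

theorem irrational_tau : Irrational tau := by
  have h5 : Irrational (Real.sqrt 5) := by
    have := Nat.Prime.irrational_sqrt (p := 5) (by norm_num)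
    exact_mod_cast this
  have : Real.sqrt 5 = 2 * tau - 1 := sqrt5_eq
  intro ⟨q, hq⟩
  apply h5
  exact ⟨2 * q - 1, by push_cast; rw [hq, this]⟩

theorem toR_injective : Function.Injective toR := by
  rw [injective_iff_map_eq_zero]
  intro x hx
  rw [toR_apply] at hx
  have hb : x.b = 0 := by
    by_contra hb
    apply irrational_tau
    refine ⟨-(x.a : ℚ) / x.b, ?_⟩
    have hb' : (x.b : ℝ) ≠ 0 := by exact_mod_cast hb
    push_cast
    field_simp
    linarith
  have ha : x.a = 0 := by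
    rw [hb] at hx; simpa using hx
  ext <;> simp [ha, hb]

end Cfsg.Agent.J2.ZTau
end

-- part: J2/Ico
section
/-!
# Icosians in integer coordinates

`Ico` = quadruples `(p0, p1, p2, p3)` over `ℤ[τ]`, standing for the quaternion
`p0 + p1 i + p2 g + p3 i g`, where `g = ½(1 + σ i + τ k)` is the second generator of the icosian ring.
`toQ : Ico →+* ℍ[ℝ]` is an injective ring homomorphism compatible with `star`, whose range is
`Cfsg.Spor.icosians`.
-/

set_option autoImplicit false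
set_option linter.unusedSimpArgs false

open Quaternion

namespace Cfsg.Agent.J2.Ico

open Cfsg.Spor Cfsg.Agent.J2.ZTau

/-- The icosian `p0 + p1 i + p2 g + p3 i g`. -/
@[ext] structure Icos where
  /-- coefficient of 1 -/
  p0 : Zt
  /-- coefficient of i -/
  p1 : Zt
  /-- coefficient of g -/
  p2 : Zt
  /-- coefficient of i g -/
  p3 : Zt

/-- decidable equality -/
instance decEqIcos : DecidableEq Icos := fun x y =>
  if h : x.p0 = y.p0 ∧ x.p1 = y.p1 ∧ x.p2 = y.p2 ∧ x.p3 = y.p3 then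
    isTrue (Icos.ext h.1 h.2.1 h.2.2.1 h.2.2.2)
  else isFalse (fun e => h ⟨congrArg Icos.p0 e, congrArg Icos.p1 e, congrArg Icos.p2 e,
    congrArg Icos.p3 e⟩)

/-- multiplication of icosians in coordinates -/
def mul (x y : Icos) : Icos :=
  ⟨x.p0 * y.p0 - x.p1 * y.p1 - S * (x.p2 * y.p1) - x.p2 * y.p2 - x.p3 * y.p1 - x.p3 * y.p3,
   x.p0 * y.p1 + x.p1 * y.p0 + x.p2 * y.p1 + x.p2 * y.p3 - S * (x.p3 * y.p1) - x.p3 * y.p2,
   x.p0 * y.p2 + x.p2 * y.p0 - x.p1 * y.p3 + x.p2 * y.p2 - S * (x.p2 * y.p3) + x.p3 * y.p1,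
   x.p0 * y.p3 + x.p3 * y.p0 + x.p1 * y.p2 - x.p2 * y.p1 + x.p3 * y.p2 - S * (x.p3 * y.p3)⟩

/-- scalar multiplication by `ℤ[τ]` -/
def smulZt (c : Zt) (x : Icos) : Icos := ⟨c * x.p0, c * x.p1, c * x.p2, c * x.p3⟩

instance zeroIcos : Zero Icos := ⟨⟨0, 0, 0, 0⟩⟩
instance oneIcos : One Icos := ⟨⟨1, 0, 0, 0⟩⟩
instance addIcos : Add Icos := ⟨fun x y => ⟨x.p0 + y.p0, x.p1 + y.p1, x.p2 + y.p2, x.p3 + y.p3⟩⟩
instance negIcos : Neg Icos := ⟨fun x => ⟨-x.p0, -x.p1, -x.p2, -x.p3⟩⟩
instance subIcos : Sub Icos := ⟨fun x y => ⟨x.p0 - y.p0, x.p1 - y.p1, x.p2 - y.p2, x.p3 - y.p3⟩⟩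
instance mulIcos : Mul Icos := ⟨mul⟩
instance smulNatIcos : SMul ℕ Icos := ⟨fun n x => ⟨n • x.p0, n • x.p1, n • x.p2, n • x.p3⟩⟩
instance smulIntIcos : SMul ℤ Icos := ⟨fun n x => ⟨n • x.p0, n • x.p1, n • x.p2, n • x.p3⟩⟩
instance smulZtIcos : SMul Zt Icos := ⟨smulZt⟩
instance natCastIcos : NatCast Icos := ⟨fun n => ⟨n, 0, 0, 0⟩⟩
instance intCastIcos : IntCast Icos := ⟨fun n => ⟨n, 0, 0, 0⟩⟩
instance powIcos : Pow Icos ℕ := ⟨fun x n => npowRec n x⟩
/-- conjugation -/
instance starIcos : Star Icos := ⟨fun x => ⟨x.p0 + x.p2 - S * x.p3, -x.p1, -x.p2, -x.p3⟩⟩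

@[simp] theorem zero_p0 : (0 : Icos).p0 = 0 := rfl
@[simp] theorem zero_p1 : (0 : Icos).p1 = 0 := rfl
@[simp] theorem zero_p2 : (0 : Icos).p2 = 0 := rfl
@[simp] theorem zero_p3 : (0 : Icos).p3 = 0 := rfl
@[simp] theorem one_p0 : (1 : Icos).p0 = 1 := rfl
@[simp] theorem one_p1 : (1 : Icos).p1 = 0 := rfl
@[simp] theorem one_p2 : (1 : Icos).p2 = 0 := rfl
@[simp] theorem one_p3 : (1 : Icos).p3 = 0 := rfl
@[simp] theorem add_p0 (x y : Icos) : (x + y).p0 = x.p0 + y.p0 := rfl
@[simp] theorem add_p1 (x y : Icos) : (x + y).p1 = x.p1 + y.p1 := rfl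
@[simp] theorem add_p2 (x y : Icos) : (x + y).p2 = x.p2 + y.p2 := rfl
@[simp] theorem add_p3 (x y : Icos) : (x + y).p3 = x.p3 + y.p3 := rfl
@[simp] theorem neg_p0 (x : Icos) : (-x).p0 = -x.p0 := rfl
@[simp] theorem neg_p1 (x : Icos) : (-x).p1 = -x.p1 := rfl
@[simp] theorem neg_p2 (x : Icos) : (-x).p2 = -x.p2 := rfl
@[simp] theorem neg_p3 (x : Icos) : (-x).p3 = -x.p3 := rfl
@[simp] theorem sub_p0 (x y : Icos) : (x - y).p0 = x.p0 - y.p0 := rfl
@[simp] theorem sub_p1 (x y : Icos) : (x - y).p1 = x.p1 - y.p1 := rfl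
@[simp] theorem sub_p2 (x y : Icos) : (x - y).p2 = x.p2 - y.p2 := rfl
@[simp] theorem sub_p3 (x y : Icos) : (x - y).p3 = x.p3 - y.p3 := rfl
theorem mul_p0 (x y : Icos) : (x * y).p0 =
  x.p0 * y.p0 - x.p1 * y.p1 - S * (x.p2 * y.p1) - x.p2 * y.p2 - x.p3 * y.p1 - x.p3 * y.p3 := rfl
theorem mul_p1 (x y : Icos) : (x * y).p1 =
  x.p0 * y.p1 + x.p1 * y.p0 + x.p2 * y.p1 + x.p2 * y.p3 - S * (x.p3 * y.p1) - x.p3 * y.p2 := rfl
theorem mul_p2 (x y : Icos) : (x * y).p2 =
  x.p0 * y.p2 + x.p2 * y.p0 - x.p1 * y.p3 + x.p2 * y.p2 - S * (x.p2 * y.p3) + x.p3 * y.p1 := rfl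
theorem mul_p3 (x y : Icos) : (x * y).p3 =
  x.p0 * y.p3 + x.p3 * y.p0 + x.p1 * y.p2 - x.p2 * y.p1 + x.p3 * y.p2 - S * (x.p3 * y.p3) := rfl
@[simp] theorem star_p0 (x : Icos) : (star x).p0 = x.p0 + x.p2 - S * x.p3 := rfl
@[simp] theorem star_p1 (x : Icos) : (star x).p1 = -x.p1 := rfl
@[simp] theorem star_p2 (x : Icos) : (star x).p2 = -x.p2 := rfl
@[simp] theorem star_p3 (x : Icos) : (star x).p3 = -x.p3 := rfl
@[simp] theorem smul_p0 (c : Zt) (x : Icos) : (c • x).p0 = c * x.p0 := rfl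
@[simp] theorem smul_p1 (c : Zt) (x : Icos) : (c • x).p1 = c * x.p1 := rfl
@[simp] theorem smul_p2 (c : Zt) (x : Icos) : (c • x).p2 = c * x.p2 := rfl
@[simp] theorem smul_p3 (c : Zt) (x : Icos) : (c • x).p3 = c * x.p3 := rfl

/-- The quaternion of an icosian. -/
noncomputable def toQfun (x : Icos) : ℍ[ℝ] :=
  ⟨(2 * toR x.p0 + toR x.p2 - sig * toR x.p3) / 2, (2 * toR x.p1 + sig * toR x.p2 + toR x.p3) / 2,
    -(tau * toR x.p3) / 2, tau * toR x.p2 / 2⟩

theorem toQfun_re (x : Icos) : (toQfun x).re = (2 * toR x.p0 + toR x.p2 - sig * toR x.p3) / 2 := rfl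
theorem toQfun_imI (x : Icos) : (toQfun x).imI = (2 * toR x.p1 + sig * toR x.p2 + toR x.p3) / 2 :=
  rfl
theorem toQfun_imJ (x : Icos) : (toQfun x).imJ = -(tau * toR x.p3) / 2 := rfl
theorem toQfun_imK (x : Icos) : (toQfun x).imK = tau * toR x.p2 / 2 := rfl

theorem toQfun_add (x y : Icos) : toQfun (x + y) = toQfun x + toQfun y := by
  ext <;> simp [toQfun_re, toQfun_imI, toQfun_imJ, toQfun_imK] <;> ring

theorem toQfun_neg (x : Icos) : toQfun (-x) = -toQfun x := by
  ext <;> simp [toQfun_re, toQfun_imI, toQfun_imJ, toQfun_imK] <;> ring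

theorem toQfun_sub (x y : Icos) : toQfun (x - y) = toQfun x - toQfun y := by
  ext <;> simp [toQfun_re, toQfun_imI, toQfun_imJ, toQfun_imK] <;> ring

theorem toQfun_zero : toQfun 0 = 0 := by
  ext <;> simp [toQfun_re, toQfun_imI, toQfun_imJ, toQfun_imK]

theorem toQfun_one : toQfun 1 = 1 := by
  ext <;> simp [toQfun_re, toQfun_imI, toQfun_imJ, toQfun_imK]

theorem toQfun_mul (x y : Icos) : toQfun (x * y) = toQfun x * toQfun y := by
  have ht := tau_sq
  ext
  · simp only [Quaternion.re_mul, toQfun_re, toQfun_imI, toQfun_imJ, toQfun_imK,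
      mul_p0, mul_p1, mul_p2, mul_p3, map_add, map_sub, map_mul, toR_S, sig_eq]
    linear_combination ((1/2) * toR x.p2 * toR y.p2 + (1/2) * toR x.p3 * toR y.p3) * ht
  · simp only [Quaternion.imI_mul, toQfun_re, toQfun_imI, toQfun_imJ, toQfun_imK,
      mul_p0, mul_p1, mul_p2, mul_p3, map_add, map_sub, map_mul, toR_S, sig_eq]
    linear_combination ((-1/2) * toR x.p2 * toR y.p3 + (1/2) * toR x.p3 * toR y.p2) * ht
  · simp only [Quaternion.imJ_mul, toQfun_re, toQfun_imI, toQfun_imJ, toQfun_imK,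
      mul_p0, mul_p1, mul_p2, mul_p3, map_add, map_sub, map_mul, toR_S, sig_eq]
    ring
  · simp only [Quaternion.imK_mul, toQfun_re, toQfun_imI, toQfun_imJ, toQfun_imK,
      mul_p0, mul_p1, mul_p2, mul_p3, map_add, map_sub, map_mul, toR_S, sig_eq]
    ring

theorem toQfun_star (x : Icos) : toQfun (star x) = star (toQfun x) := by
  ext
  · simp [toQfun_re]; ring
  · simp [toQfun_imI]; ring
  · simp [toQfun_imJ]; ring
  · simp [toQfun_imK]; ring

theorem tau_pos : 0 < tau := by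
  unfold tau; positivity

theorem toQfun_injective : Function.Injective toQfun := by
  intro x y h
  have ht : tau ≠ 0 := tau_pos.ne'
  have h2 := congrArg QuaternionAlgebra.imK h
  have h3 := congrArg QuaternionAlgebra.imJ h
  have h1 := congrArg QuaternionAlgebra.imI h
  have h0 := congrArg QuaternionAlgebra.re h
  rw [toQfun_imK, toQfun_imK] at h2
  rw [toQfun_imJ, toQfun_imJ] at h3
  rw [toQfun_imI, toQfun_imI] at h1
  rw [toQfun_re, toQfun_re] at h0
  have e2 : toR x.p2 = toR y.p2 := mul_left_cancel₀ ht (by linarith)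
  have e3 : toR x.p3 = toR y.p3 := mul_left_cancel₀ ht (by linarith)
  rw [e2, e3] at h0 h1
  have e0 : toR x.p0 = toR y.p0 := by linarith
  have e1 : toR x.p1 = toR y.p1 := by linarith
  exact Icos.ext (toR_injective e0) (toR_injective e1) (toR_injective e2) (toR_injective e3)

theorem toQfun_nsmul (n : ℕ) (x : Icos) : toQfun (n • x) = n • toQfun x := by
  have h : n • x = ⟨n • x.p0, n • x.p1, n • x.p2, n • x.p3⟩ := rfl
  rw [h]
  ext <;> simp [toQfun_re, toQfun_imI, toQfun_imJ, toQfun_imK] <;> ring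

theorem toQfun_zsmul (n : ℤ) (x : Icos) : toQfun (n • x) = n • toQfun x := by
  have h : n • x = ⟨n • x.p0, n • x.p1, n • x.p2, n • x.p3⟩ := rfl
  rw [h]
  ext <;> simp [toQfun_re, toQfun_imI, toQfun_imJ, toQfun_imK] <;> ring

theorem toQfun_natCast (n : ℕ) : toQfun (n : Icos) = (n : ℍ[ℝ]) := by
  have h : (n : Icos) = ⟨n, 0, 0, 0⟩ := rfl
  rw [h]
  ext <;> simp [toQfun_re, toQfun_imI, toQfun_imJ, toQfun_imK]

theorem toQfun_intCast (n : ℤ) : toQfun (n : Icos) = (n : ℍ[ℝ]) := by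
  have h : (n : Icos) = ⟨n, 0, 0, 0⟩ := rfl
  rw [h]
  ext <;> simp [toQfun_re, toQfun_imI, toQfun_imJ, toQfun_imK]

theorem toQfun_pow (x : Icos) (n : ℕ) : toQfun (x ^ n) = toQfun x ^ n := by
  induction n with
  | zero =>
    have h : x ^ 0 = (1 : Icos) := rfl
    rw [h, toQfun_one, pow_zero]
  | succ n ih =>
    have h : x ^ (n + 1) = x ^ n * x := rfl
    rw [h, toQfun_mul, ih, pow_succ]

/-- The icosians form a ring. -/
noncomputable instance ringIcos : Ring Icos :=
  Function.Injective.ring toQfun toQfun_injective toQfun_zero toQfun_one toQfun_add toQfun_mul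
    toQfun_neg toQfun_sub (fun n x => toQfun_nsmul n x) (fun n x => toQfun_zsmul n x)
    (fun x n => toQfun_pow x n) toQfun_natCast toQfun_intCast

noncomputable instance starRingIcos : StarRing Icos where
  star_involutive x := toQfun_injective (by rw [toQfun_star, toQfun_star, star_star])
  star_mul x y := toQfun_injective (by
    rw [toQfun_star, toQfun_mul, toQfun_mul, star_mul, toQfun_star, toQfun_star])
  star_add x y := toQfun_injective (by
    rw [toQfun_star, toQfun_add, toQfun_add, star_add, toQfun_star, toQfun_star])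

/-- The embedding of the integral model in the real quaternions. -/
noncomputable def toQ : Icos →+* ℍ[ℝ] where
  toFun := toQfun
  map_one' := toQfun_one
  map_zero' := toQfun_zero
  map_add' := toQfun_add
  map_mul' := toQfun_mul

theorem toQ_injective : Function.Injective toQ := toQfun_injective
theorem toQ_star (x : Icos) : toQ (star x) = star (toQ x) := toQfun_star x
theorem toQ_re (x : Icos) : (toQ x).re = (2 * toR x.p0 + toR x.p2 - sig * toR x.p3) / 2 := rfl
theorem toQ_imI (x : Icos) : (toQ x).imI = (2 * toR x.p1 + sig * toR x.p2 + toR x.p3) / 2 := rfl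
theorem toQ_imJ (x : Icos) : (toQ x).imJ = -(tau * toR x.p3) / 2 := rfl
theorem toQ_imK (x : Icos) : (toQ x).imK = tau * toR x.p2 / 2 := rfl

/-- `ℤ[τ]` as central scalars in the icosians. -/
def ofZt (c : Zt) : Icos := ⟨c, 0, 0, 0⟩

theorem toQ_ofZt (c : Zt) : toQ (ofZt c) = ((toR c : ℝ) : ℍ[ℝ]) := by
  ext <;> simp [toQ_re, toQ_imI, toQ_imJ, toQ_imK, ofZt]

theorem toQ_smul (c : Zt) (x : Icos) : toQ (c • x) = (toR c : ℝ) • toQ x := by
  ext <;> simp [toQ_re, toQ_imI, toQ_imJ, toQ_imK] <;> ring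

theorem smul_eq_ofZt_mul (c : Zt) (x : Icos) : c • x = ofZt c * x := by
  apply toQ_injective
  rw [toQ_smul, map_mul, toQ_ofZt, Quaternion.coe_mul_eq_smul]

/-- the icosian i -/
def eI : Icos := ⟨0, 1, 0, 0⟩
/-- the icosian g = ½(1 + σ i + τ k) -/
def eG : Icos := ⟨0, 0, 1, 0⟩

theorem toQ_eI : toQ eI = qI := by
  ext <;> simp [toQ_re, toQ_imI, toQ_imJ, toQ_imK, eI, qI]

theorem toQ_eG : toQ eG = ⟨1 / 2, sig / 2, 0, tau / 2⟩ := by
  ext <;> simp [toQ_re, toQ_imI, toQ_imJ, toQ_imK, eG]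

/-- ring elements `ofZt (a + bτ)` are built from i and g -/
theorem ofZt_S : ofZt S = eI - eI * eG - eG * eI := by decide

theorem ofZt_eq (c : Zt) : ofZt c = (c.a : Icos) + (c.b : Icos) * (1 - ofZt S) := by
  apply toQ_injective
  simp only [map_add, map_mul, map_sub, map_one, map_intCast, toQ_ofZt, toR_S, toR_apply, sig_eq]
  ext <;> simp

theorem eq_basis (x : Icos) :
    x = ofZt x.p0 + ofZt x.p1 * eI + ofZt x.p2 * eG + ofZt x.p3 * (eI * eG) := by
  ext <;> simp [mul_p0, mul_p1, mul_p2, mul_p3, ofZt, eI, eG]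

/-- The icosian ring of the definition is the range of `toQ`. -/
theorem icosians_eq : icosians = toQ.range := by
  apply le_antisymm
  · unfold icosians
    rw [Subring.closure_le]
    rintro q (rfl | rfl)
    · exact ⟨eI, toQ_eI⟩
    · exact ⟨eG, toQ_eG⟩
  · have hI : toQ eI ∈ icosians := by
      rw [toQ_eI]; exact Subring.subset_closure (Set.mem_insert _ _)
    have hG : toQ eG ∈ icosians := by
      rw [toQ_eG]; exact Subring.subset_closure (Set.mem_insert_of_mem _ rfl)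
    have hS : toQ (ofZt S) ∈ icosians := by
      rw [ofZt_S]
      simp only [map_sub, map_mul]
      exact sub_mem (sub_mem hI (mul_mem hI hG)) (mul_mem hG hI)
    have hc : ∀ c : Zt, toQ (ofZt c) ∈ icosians := by
      intro c
      rw [ofZt_eq]
      simp only [map_add, map_mul, map_sub, map_one, map_intCast]
      exact add_mem (intCast_mem _ _) (mul_mem (intCast_mem _ _) (sub_mem (one_mem _) hS))
    rintro _ ⟨x, rfl⟩
    rw [eq_basis x]
    simp only [map_add, map_mul]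
    exact add_mem (add_mem (add_mem (hc _) (mul_mem (hc _) hI)) (mul_mem (hc _) hG))
      (mul_mem (hc _) (mul_mem hI hG))

theorem mem_icosians {q : ℍ[ℝ]} : q ∈ icosians ↔ ∃ x : Icos, toQ x = q := by
  rw [icosians_eq]; exact RingHom.mem_range

theorem toQ_mem (x : Icos) : toQ x ∈ icosians := mem_icosians.2 ⟨x, rfl⟩

end Cfsg.Agent.J2.Ico
end
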